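import Groth.Prelude.Def_FlatMod2
import Mathlib.AlgebraicGeometry.Modules.Sheaf
import Mathlib.Algebra.Category.ModuleCat.Sheaf.PullbackFree

/-!
Finite locally free modules: closure under isomorphism, zero, pullback and biproducts.
-/

universe u

open CategoryTheory CategoryTheory.Limits AlgebraicGeometry TopologicalSpace

namespace Groth.L29.LocFree

variable {X Y : Scheme.{u}}

instance final_opensMap (f : X ⟶ Y) : (Opens.map f.base).Final where
  out V := by
    haveI : HasTerminal (StructuredArrow V (Opens.map f.base)) :=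
      (IsTerminal.ofUniqueHom (Y := StructuredArrow.mk (S := V) (T := Opens.map f.base) (Y := ⊤)
          (homOfLE le_top))
        (fun A => StructuredArrow.homMk (homOfLE le_top) (Subsingleton.elim _ _))
        (fun A m => StructuredArrow.ext _ _ (Subsingleton.elim _ _))).hasTerminal
    exact isConnected_of_hasTerminal _

/-- pullback of the structure sheaf -/
noncomputable def pullbackUnitIso (f : X ⟶ Y) :
    (Scheme.Modules.pullback f).obj (Coh.structureModule Y) ≅ Coh.structureModule X :=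
  haveI : (SheafOfModules.pushforward.{u} f.toRingCatSheafHom).IsRightAdjoint :=
    (Scheme.Modules.pullbackPushforwardAdjunction f).isRightAdjoint
  haveI : (Opens.map f.base).Final := final_opensMap f
  @asIso _ _ _ _ (SheafOfModules.pullbackObjUnitToUnit f.toRingCatSheafHom)
    (SheafOfModules.instIsIsoPullbackObjUnitToUnitOfFinal (F := Opens.map f.base) f.toRingCatSheafHom)

/-- pullback of a finite free module -/
noncomputable def pullbackFreeIso (f : X ⟶ Y) (n : ℕ) :
    (Scheme.Modules.pullback f).obj (FlatMod.freeMod Y n) ≅ FlatMod.freeMod X n :=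
  PreservesCoproduct.iso (Scheme.Modules.pullback f) _ ≪≫ Sigma.mapIso fun _ => pullbackUnitIso f

/-- the free module of rank `n + m` -/
noncomputable def freeBiprodIso (X : Scheme.{u}) (n m : ℕ) :
    (FlatMod.freeMod X n ⊞ FlatMod.freeMod X m) ≅ FlatMod.freeMod X (n + m) where
  hom := biprod.desc
    (Sigma.desc fun i => Sigma.ι (fun _ : Fin (n + m) => Coh.structureModule X) (Fin.castAdd m i))
    (Sigma.desc fun i => Sigma.ι (fun _ : Fin (n + m) => Coh.structureModule X) (Fin.natAdd n i))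
  inv := Sigma.desc (Fin.addCases
    (motive := fun _ => Coh.structureModule X ⟶ FlatMod.freeMod X n ⊞ FlatMod.freeMod X m)
    (fun i => Sigma.ι (fun _ : Fin n => Coh.structureModule X) i ≫ biprod.inl)
    (fun i => Sigma.ι (fun _ : Fin m => Coh.structureModule X) i ≫ biprod.inr))
  hom_inv_id := by
    apply biprod.hom_ext'
    · refine Sigma.hom_ext _ _ fun i => ?_
      simp
    · refine Sigma.hom_ext _ _ fun i => ?_
      simp
  inv_hom_id := by
    refine Sigma.hom_ext _ _ fun i => ?_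
    refine Fin.addCases (fun i => ?_) (fun i => ?_) i <;> simp

theorem of_iso {M N : X.Modules} (e : M ≅ N) (h : FlatMod.IsFinLocFree M) :
    FlatMod.IsFinLocFree N := fun x => by
  obtain ⟨U, n, hx, ⟨i⟩⟩ := h x
  exact ⟨U, n, hx, ⟨((Scheme.Modules.restrictFunctor U.ι).mapIso e).symm ≪≫ i⟩⟩

theorem of_isZero {M : X.Modules} (h : IsZero M) : FlatMod.IsFinLocFree M := fun x => by
  refine ⟨⊤, 0, trivial, ⟨IsZero.iso ((Scheme.Modules.restrictFunctor _).map_isZero h) ?_⟩⟩
  exact IsZero.of_iso ((IsInitial.isZero initialIsInitial)) (initialIsoIsInitial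
    (IsInitial.ofUniqueHom (fun Z => Sigma.desc fun i => i.elim0)
      (fun Z g => Sigma.hom_ext _ _ fun i => i.elim0))).symm

/-- trivialisations pull back -/
theorem restrict_pullback (f : X ⟶ Y) {M : Y.Modules} {U : Y.Opens} {n : ℕ}
    (i : M.restrict U.ι ≅ FlatMod.freeMod (↑U) n) :
    Nonempty (((Scheme.Modules.pullback f).obj M).restrict (f ⁻¹ᵁ U).ι ≅
      FlatMod.freeMod (↑(f ⁻¹ᵁ U)) n) :=
  ⟨(Scheme.Modules.restrictFunctorIsoPullback _).app _ ≪≫
    (Scheme.Modules.pullbackComp (f ⁻¹ᵁ U).ι f).app M ≪≫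
    (Scheme.Modules.pullbackCongr (morphismRestrict_ι f U).symm).app M ≪≫
    ((Scheme.Modules.pullbackComp (f ∣_ U) U.ι).app M).symm ≪≫
    (Scheme.Modules.pullback (f ∣_ U)).mapIso
      (((Scheme.Modules.restrictFunctorIsoPullback U.ι).app M).symm ≪≫ i) ≪≫
    pullbackFreeIso _ n⟩

theorem pullback (f : X ⟶ Y) {M : Y.Modules} (h : FlatMod.IsFinLocFree M) :
    FlatMod.IsFinLocFree ((Scheme.Modules.pullback f).obj M) := fun x => by
  obtain ⟨U, n, hx, ⟨i⟩⟩ := h (f.base x)
  exact ⟨f ⁻¹ᵁ U, n, hx, restrict_pullback f i⟩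

/-- trivialisations restrict to smaller opens -/
theorem restrict_le {M : X.Modules} {U W : X.Opens} (hWU : W ≤ U) {n : ℕ}
    (i : M.restrict U.ι ≅ FlatMod.freeMod (↑U) n) :
    Nonempty (M.restrict W.ι ≅ FlatMod.freeMod (↑W) n) :=
  ⟨(Scheme.Modules.restrictFunctorIsoPullback _).app _ ≪≫
    (Scheme.Modules.pullbackCongr (X.homOfLE_ι hWU).symm).app M ≪≫
    ((Scheme.Modules.pullbackComp (X.homOfLE hWU) U.ι).app M).symm ≪≫
    (Scheme.Modules.pullback (X.homOfLE hWU)).mapIso
      (((Scheme.Modules.restrictFunctorIsoPullback U.ι).app M).symm ≪≫ i) ≪≫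
    pullbackFreeIso _ n⟩

attribute [local instance] preservesBinaryBiproducts_of_preservesBinaryCoproducts

theorem biprod {M N : X.Modules} (hM : FlatMod.IsFinLocFree M) (hN : FlatMod.IsFinLocFree N) :
    FlatMod.IsFinLocFree (M ⊞ N) := fun x => by
  obtain ⟨U, n, hxU, ⟨iM⟩⟩ := hM x
  obtain ⟨V, m, hxV, ⟨iN⟩⟩ := hN x
  obtain ⟨iM'⟩ := restrict_le (inf_le_left : U ⊓ V ≤ U) iM
  obtain ⟨iN'⟩ := restrict_le (inf_le_right : U ⊓ V ≤ V) iN
  exact ⟨U ⊓ V, n + m, ⟨hxU, hxV⟩, ⟨(Scheme.Modules.restrictFunctor (U ⊓ V).ι).mapBiprod M N ≪≫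
    biprod.mapIso iM' iN' ≪≫ freeBiprodIso _ n m⟩⟩

end Groth.L29.LocFree
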