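import Groth.Prelude.Def_DRing2
import Mathlib.Algebra.Category.ModuleCat.Biproducts
import Mathlib.Algebra.Homology.HomotopyCategory.Pretriangulated
import Mathlib.LinearAlgebra.FreeModule.Finite.Basic
import Mathlib.RingTheory.Finiteness.Prod
import Mathlib.RingTheory.Finiteness.Projective

/-!
A bounded complex of finite projective modules is isomorphic in `D(A)` to a bounded above complex of
finite free modules.
-/

universe u

open CategoryTheory CategoryTheory.Limits

attribute [local instance] HasDerivedCategory.standard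

namespace Groth.L29.PerfPC

variable {A : Type u} [CommRing A]

/-- finite free -/
def FF (M : ModuleCat.{u} A) : Prop := Module.Finite A M ∧ Module.Free A M

lemma FF.of_iso {M N : ModuleCat.{u} A} (e : M ≅ N) (h : FF M) : FF N := by
  obtain ⟨_, _⟩ := h
  exact ⟨Module.Finite.equiv e.toLinearEquiv, Module.Free.of_equiv e.toLinearEquiv⟩

lemma FF.of_isZero {M : ModuleCat.{u} A} (h : IsZero M) : FF M :=
  haveI := ModuleCat.subsingleton_of_isZero h
  ⟨inferInstance, inferInstance⟩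

lemma FF.biprod {M N : ModuleCat.{u} A} (h : FF M) (h' : FF N) : FF (M ⊞ N) := by
  obtain ⟨_, _⟩ := h; obtain ⟨_, _⟩ := h'
  exact FF.of_iso (ModuleCat.biprodIsoProd M N).symm ⟨inferInstanceAs (Module.Finite A (M × N)),
    inferInstanceAs (Module.Free A (M × N))⟩

lemma exists_complement (M : ModuleCat.{u} A) [Module.Finite A M] [Module.Projective A M] :
    ∃ Q : ModuleCat.{u} A, Module.Finite A Q ∧ FF (M ⊞ Q) := by
  obtain ⟨n, f, g, hf, -, hfg⟩ := Module.Finite.exists_comp_eq_id_of_projective A M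
  have hm : ∀ m, f (g m) = m := fun m => LinearMap.congr_fun hfg m
  let e : (↥(LinearMap.ker f) × M) ≃ₗ[A] (Fin n → A) :=
    LinearEquiv.ofBijective ((LinearMap.ker f).subtype.coprod g) ⟨by
      refine (injective_iff_map_eq_zero _).2 ?_
      rintro ⟨⟨x, hx⟩, m⟩ h
      have h1 : x + g m = 0 := h
      have h2 : m = 0 := by
        have h3 := congrArg f h1
        rwa [map_add, LinearMap.mem_ker.1 hx, zero_add, hm, map_zero] at h3
      subst h2
      rw [map_zero, add_zero] at h1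
      subst h1
      rfl, fun y => ⟨(⟨y - g (f y), by simp [hm]⟩, f y), by simp⟩⟩
  refine ⟨ModuleCat.of A ↥(LinearMap.ker f), ?_, ?_⟩
  · exact Module.Finite.of_surjective ((LinearMap.fst A ↥(LinearMap.ker f) M) ∘ₗ e.symm.toLinearMap)
      (fun x => ⟨e (x, 0), by simp⟩)
  · exact FF.of_iso ((ModuleCat.biprodIsoProd _ _) ≪≫
      ((LinearEquiv.prodComm A M _).trans e).toModuleIso).symm
      ⟨inferInstanceAs (Module.Finite A (Fin n → A)), inferInstanceAs (Module.Free A (Fin n → A))⟩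

/-- rearrangement `(p ⊞ z) ⊞ (q ⊞ z') ≅ (p ⊞ q) ⊞ (z' ⊞ z)` -/
noncomputable def shuffle (p z q z' : ModuleCat.{u} A) :
    (p ⊞ z) ⊞ (q ⊞ z') ≅ (p ⊞ q) ⊞ (z' ⊞ z) where
  hom := biprod.desc (biprod.desc (biprod.inl ≫ biprod.inl) (biprod.inr ≫ biprod.inr))
    (biprod.desc (biprod.inr ≫ biprod.inl) (biprod.inl ≫ biprod.inr))
  inv := biprod.desc (biprod.desc (biprod.inl ≫ biprod.inl) (biprod.inl ≫ biprod.inr))
    (biprod.desc (biprod.inr ≫ biprod.inr) (biprod.inr ≫ biprod.inl))
  hom_inv_id := by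
    apply biprod.hom_ext' <;> apply biprod.hom_ext' <;> simp
  inv_hom_id := by
    apply biprod.hom_ext' <;> apply biprod.hom_ext' <;> simp

theorem isPseudoCoherent'_of_isPerfect {K : Dual.D A} (hK : DRing.IsPerfect A K) :
    DRing.IsPseudoCoherent' A K := by
  obtain ⟨P, a, b, hv, hp, ⟨eK⟩⟩ := hK
  have hQ : ∀ i, ∃ Q : ModuleCat.{u} A, Module.Finite A Q ∧ FF (P.X i ⊞ Q) := fun i =>
    haveI := (hp i).1; haveI := (hp i).2
    exists_complement (P.X i)
  choose Q hQfin hQ using hQ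
  -- pairs of mutually complementary modules, indexed downwards from `b`
  let zz : ℕ → ModuleCat.{u} A × ModuleCat.{u} A :=
    Nat.rec (Q b, P.X b) (fun k z => (Q (b - (k + 1 : ℕ)) ⊞ z.2, P.X (b - (k + 1 : ℕ)) ⊞ z.1))
  have hzz : ∀ k, FF ((zz k).2 ⊞ (zz k).1) ∧ Module.Finite A (zz k).1 := by
    intro k
    induction k with
    | zero => exact ⟨hQ b, hQfin b⟩
    | succ k ih =>
      refine ⟨FF.of_iso (shuffle (P.X (b - (k + 1 : ℕ))) (zz k).1 (Q (b - (k + 1 : ℕ))) (zz k).2).symm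
        (FF.biprod (hQ _) ih.1), ?_⟩
      have h2 : Module.Finite A (zz k).2 :=
        haveI := ih.1.1
        Module.Finite.of_surjective (biprod.fst : (zz k).2 ⊞ (zz k).1 ⟶ _).hom
          ((ModuleCat.epi_iff_surjective _).1 inferInstance)
      haveI := hQfin (b - (k + 1 : ℕ))
      exact Module.Finite.equiv (ModuleCat.biprodIsoProd _ _).toLinearEquiv.symm
  let Z : ℤ → ModuleCat.{u} A := fun i =>
    if i ≤ b then (zz (b - i).toNat).1 else ModuleCat.of A PUnit
  let ZC : DRing.Cx A :=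
    { X := Z
      d := fun _ _ => 0
      shape := fun _ _ _ => rfl
      d_comp_d' := fun _ _ _ _ _ => comp_zero }
  let M := CochainComplex.mappingCone (𝟙 ZC)
  have hM : IsZero (DRing.toD M) := by
    have h := (HomotopyCategory.isZero_quotient_obj_iff M).2
      ⟨CochainComplex.mappingCone.homotopyToZeroOfId ZC⟩
    exact ((DerivedCategory.Qh (C := ModuleCat.{u} A)).map_isZero h).of_iso
      ((DerivedCategory.quotientCompQhIso _).app M).symm
  have hMX : ∀ i, M.X i ≅ Z (i + 1) ⊞ Z i := fun i =>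
    HomologicalComplex.homotopyCofiber.XIsoBiprod (𝟙 ZC) i (i + 1) rfl
  have hZ : ∀ i, b < i → IsZero (Z i) := fun i hi => by
    simp only [Z, if_neg (show ¬ i ≤ b by lia)]
    exact ModuleCat.isZero_of_subsingleton _
  refine ⟨P ⊞ M, b, fun i hi => ?_, fun i => ?_, ⟨?_⟩⟩
  · exact IsZero.of_iso ((biprod_isZero_iff _ _).2 ⟨hv i (Or.inr hi), IsZero.of_iso
      ((biprod_isZero_iff _ _).2 ⟨hZ _ (by lia), hZ _ hi⟩) (hMX i)⟩)
      (HomologicalComplex.biprodXIso P M i)
  · refine FF.of_iso (biprod.mapIso (Iso.refl (P.X i)) (hMX i) ≪≫ (Iso.refl _)).symm ?_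
      |>.of_iso (HomologicalComplex.biprodXIso P M i).symm
    rcases lt_trichotomy i b with hi | hi | hi
    · obtain ⟨k, rfl⟩ : ∃ k : ℕ, i = b - (k + 1 : ℕ) := ⟨(b - i - 1).toNat, by lia⟩
      have h1 : Z (b - (k + 1 : ℕ) + 1) = (zz k).1 := by
        simp only [Z, if_pos (show b - (k + 1 : ℕ) + 1 ≤ b by lia)]
        rw [show (b - (b - ((k + 1 : ℕ) : ℤ) + 1)).toNat = k by lia]
      have h2 : Z (b - (k + 1 : ℕ)) = (zz (k + 1)).1 := by
        simp only [Z, if_pos (show b - (k + 1 : ℕ) ≤ b by lia)]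
        rw [show (b - (b - ((k + 1 : ℕ) : ℤ))).toNat = k + 1 by lia]
      rw [h1, h2]
      exact FF.of_iso (biprod.associator _ _ _) (hzz (k + 1)).1
    · subst hi
      have h2 : Z i = Q i := by simp [Z, zz]
      rw [h2]
      exact FF.of_iso (biprod.mapIso (Iso.refl _)
        (isoZeroBiprod (hZ (i + 1) (by lia)))) (hQ i)
    · exact FF.of_isZero ((biprod_isZero_iff _ _).2 ⟨hv i (Or.inr hi),
        (biprod_isZero_iff _ _).2 ⟨hZ _ (by lia), hZ _ hi⟩⟩)
  · haveI : PreservesBinaryBiproducts (DerivedCategory.Q (C := ModuleCat.{u} A)) :=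
      preservesBinaryBiproducts_of_preservesBiproducts _
    exact (DerivedCategory.Q (C := ModuleCat.{u} A)).mapBiprod P M ≪≫
      (isoBiprodZero hM).symm ≪≫ eK

end Groth.L29.PerfPC
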