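import Groth.Prelude.Def_QFDual
import Mathlib.RingTheory.Etale.Field
import Mathlib.RingTheory.Trace.Basic
import Mathlib.RingTheory.Flat.EquationalCriterion
import Mathlib.RingTheory.Localization.BaseChange
import Mathlib.RingTheory.Finiteness.Projective
import Mathlib.FieldTheory.IsAlgClosed.AlgebraicClosure
import Mathlib.LinearAlgebra.Matrix.Nondegenerate
import Mathlib.LinearAlgebra.Trace

/-! Traces of finite free étale algebras. -/

universe u

open TensorProduct Module

namespace Groth.L29.Trace

theorem trace_tmul_one {R L : Type u} [CommRing R] [CommRing L] [Algebra R L] [Module.Free R L]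
    [Module.Finite R L] (F : Type u) [CommRing F] [Algebra R F] (x : L) :
    Algebra.trace F (F ⊗[R] L) ((1 : F) ⊗ₜ x) = algebraMap R F (Algebra.trace R L x) := by
  rw [Algebra.trace_apply, Algebra.trace_apply, ← LinearMap.trace_baseChange]
  congr 1
  ext y
  simp

theorem trace_pi {F : Type u} [Field F] {ι : Type u} [Fintype ι] [DecidableEq ι] (x : ι → F) :
    Algebra.trace F (ι → F) x = ∑ i, x i := by
  rw [Algebra.trace_eq_matrix_trace (Pi.basisFun F ι)]
  simp [Matrix.trace, Algebra.leftMulMatrix_eq_repr_mul]

/-- Over a separably closed field the trace is a sum of coordinates. -/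
theorem exists_pi {R L : Type u} [CommRing R] [CommRing L] [Algebra R L] [Module.Free R L]
    [Module.Finite R L] [Algebra.Etale R L] (F : Type u) [Field F] [IsSepClosed F] [Algebra R F] :
    ∃ (ι : Type u) (_ : Fintype ι) (e : (F ⊗[R] L) ≃ₐ[F] (ι → F)),
      (∀ x : L, algebraMap R F (Algebra.trace R L x) = ∑ i, e ((1 : F) ⊗ₜ x) i) ∧
      ∀ z, Algebra.trace F (F ⊗[R] L) z = ∑ i, e z i := by
  classical
  let e : (F ⊗[R] L) ≃ₐ[F] (PrimeSpectrum (F ⊗[R] L) → F) :=
    Algebra.FormallyEtale.equivPiOfIsSepClosed F (F ⊗[R] L)
  have : IsArtinianRing (F ⊗[R] L) := isArtinian_of_tower F inferInstance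
  have : Fintype (PrimeSpectrum (F ⊗[R] L)) := Fintype.ofFinite _
  have h : ∀ z, Algebra.trace F (F ⊗[R] L) z = ∑ i, e z i := fun z => by
    rw [← Algebra.trace_eq_of_algEquiv e z, trace_pi]
  exact ⟨_, inferInstance, e, fun x => by rw [← trace_tmul_one, h], h⟩

/-- The trace matrix of a finite free étale algebra has unit determinant. -/
theorem isUnit_det_traceMatrix {R L : Type u} [CommRing R] [CommRing L] [Algebra R L]
    [Algebra.Etale R L] {κ : Type u} [Fintype κ] [DecidableEq κ] (b : Basis κ R L) :
    IsUnit (Algebra.traceMatrix R b).det := by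
  have : Module.Free R L := Module.Free.of_basis b
  have : Module.Finite R L := Module.Finite.of_basis b
  by_contra hu
  obtain ⟨m, hm, hmem⟩ := exists_max_ideal_of_mem_nonunits hu
  let F := AlgebraicClosure m.ResidueField
  let φ : R →+* F := algebraMap R F
  have h0 : (φ.mapMatrix (Algebra.traceMatrix R b)).det = 0 := by
    rw [← RingHom.map_det]
    show algebraMap R F _ = 0
    rw [IsScalarTower.algebraMap_apply R m.ResidueField F, Ideal.algebraMap_residueField_eq_zero.2 hmem, map_zero]
  obtain ⟨v, hv, hv0⟩ := Matrix.exists_mulVec_eq_zero_iff.2 h0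
  obtain ⟨ι, _, e, -, htr⟩ := exists_pi (R := R) (L := L) F
  let bF := Algebra.TensorProduct.basis F b
  let x : F ⊗[R] L := ∑ j, v j • bF j
  have hzero : ∀ i, Algebra.trace F (F ⊗[R] L) (x * bF i) = 0 := by
    intro i
    have := congrFun hv0 i
    simp only [Matrix.mulVec, dotProduct, RingHom.mapMatrix_apply, Matrix.map_apply, Pi.zero_apply] at this
    rw [← this]
    simp only [x, Finset.sum_mul, map_sum, smul_mul_assoc, map_smul, smul_eq_mul]
    refine Finset.sum_congr rfl fun j _ => ?_
    rw [mul_comm (φ _) (v j), Algebra.traceMatrix_apply, Algebra.traceForm_apply, mul_comm (b i) (b j)]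
    congr 1
    simp only [bF, Algebra.TensorProduct.basis_apply, Algebra.TensorProduct.tmul_mul_tmul, one_mul,
      trace_tmul_one, φ]
  have hx : x = 0 := by
    classical
    apply e.injective
    funext k
    have hall : ∀ z, Algebra.trace F (F ⊗[R] L) (x * z) = 0 := by
      intro z
      rw [← bF.sum_repr z, Finset.mul_sum, map_sum]
      refine Finset.sum_eq_zero fun i _ => ?_
      rw [mul_smul_comm, map_smul, hzero, smul_zero]
    have := hall (e.symm (Pi.single k 1))
    rw [htr, map_mul, e.apply_symm_apply, Finset.sum_eq_single k] at this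
    · simpa using this
    · intro j _ hj; simp [hj]
    · simp
  refine hv (funext fun j => ?_)
  have := congrArg (fun z => bF.repr z j) hx
  simpa [x, Finsupp.single_apply] using this

theorem trace_bijective {R L : Type u} [CommRing R] [CommRing L] [Algebra R L] [Module.Free R L]
    [Module.Finite R L] [Algebra.Etale R L] : Function.Bijective (Algebra.traceForm R L) := by
  classical
  let b := Module.Free.chooseBasis R L
  let A := Algebra.traceMatrix R b
  have : Invertible A.det := (isUnit_det_traceMatrix b).invertible
  have := A.invertibleOfDetInvertible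
  have hT : LinearMap.toMatrix b b.dualBasis (Algebra.traceForm R L) = A := by
    ext i j
    rw [LinearMap.toMatrix_apply, Basis.dualBasis_repr, show A i j = Algebra.traceForm R L (b i) (b j) from Algebra.traceMatrix_apply R b i j,
      Algebra.traceForm_apply, Algebra.traceForm_apply, mul_comm]
  have h : Algebra.traceForm R L = Matrix.toLin b b.dualBasis A := by
    rw [← hT]; exact (Matrix.toLin_toMatrix _ _ _).symm
  rw [h]
  refine Function.bijective_iff_has_inverse.2 ⟨Matrix.toLin b.dualBasis b (⅟A), fun x => ?_, fun y => ?_⟩
  · rw [← LinearMap.comp_apply, ← Matrix.toLin_mul, invOf_mul_self, Matrix.toLin_one]; rfl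
  · rw [← LinearMap.comp_apply, ← Matrix.toLin_mul, mul_invOf_self, Matrix.toLin_one]; rfl

section Square

variable {A K B L : Type u} [CommRing A] [CommRing K] [CommRing B] [CommRing L] [Algebra A K] [Algebra A B]
  [Algebra B L] [Algebra K L] [Algebra A L] [IsScalarTower A K L] [IsScalarTower A B L]

theorem isBaseChange_toL (h : QFDual.IsDedekindDefined A K B L) :
    IsBaseChange K (IsScalarTower.toAlgHom A B L).toLinearMap := by
  have := h.isFractionRing
  exact (isLocalizedModule_iff_isBaseChange (nonZeroDivisors A) K _).1
    (isLocalizedModule_iff_isLocalization.2 h.isLocalization)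

theorem trace_mem_range_of_flat (h : QFDual.IsDedekindDefined A K B L) [Module.Flat A B] (y : B) :
    Algebra.trace K L (algebraMap B L y) ∈ (algebraMap A K).range := by
  classical
  have := h.isNoetherianRing
  have := h.finite
  have := h.free
  have := h.finiteKL
  have := Module.finitePresentation_of_finite A B
  have := Module.Flat.projective_of_finitePresentation (R := A) (M := B)
  obtain ⟨n, p, i, -, -, hpi⟩ := Module.Finite.exists_comp_eq_id_of_projective A B
  have hb := isBaseChange_toL h
  let iK : L →ₗ[K] (Fin n → K) := hb.lift (((Algebra.linearMap A K).compLeft (Fin n)) ∘ₗ i)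
  have hiK : ∀ b : B, iK (algebraMap B L b) = fun j => algebraMap A K (i b j) := fun b =>
    hb.lift_eq _ b
  let pK : (Fin n → K) →ₗ[K] L := Fintype.linearCombination K fun j => algebraMap B L (p (Pi.single j 1))
  have hid : pK ∘ₗ iK = LinearMap.id := by
    refine hb.algHom_ext _ _ fun b => ?_
    show pK (iK (algebraMap B L b)) = algebraMap B L b
    rw [hiK]
    simp only [pK, Fintype.linearCombination_apply, algebraMap_smul]
    have : b = ∑ j, i b j • p (Pi.single j 1) := by
      conv_lhs => rw [← LinearMap.id_apply (R := A) b, ← hpi, LinearMap.comp_apply, pi_eq_sum_univ' (i b)]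
      simp [map_sum, map_smul]
    conv_rhs => rw [this]
    rw [map_sum]
    refine Finset.sum_congr rfl fun j _ => ?_
    rw [Algebra.smul_def, Algebra.smul_def, map_mul, ← IsScalarTower.algebraMap_apply]
  set l := Algebra.lmul K L (algebraMap B L y) with hl
  rw [Algebra.trace_apply, ← hl]
  have : (l : L →ₗ[K] L) = pK ∘ₗ (iK ∘ₗ l) := by rw [← LinearMap.comp_assoc, hid, LinearMap.id_comp]
  rw [this, LinearMap.trace_comp_comm', LinearMap.trace_eq_matrix_trace K (Pi.basisFun K (Fin n)),
    Matrix.trace]
  refine sum_mem fun j _ => ⟨i (y * p (Pi.single j 1)) j, ?_⟩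
  simp [LinearMap.toMatrix_apply, pK, hl, ← map_mul, hiK]

end Square

end Groth.L29.Trace

namespace Groth.L29.Trace

variable {A K B L : Type u} [CommRing A] [CommRing K] [CommRing B] [CommRing L] [Algebra A K] [Algebra A B]
  [Algebra B L] [Algebra K L] [Algebra A L] [IsScalarTower A K L] [IsScalarTower A B L]

theorem exists_complementary_equiv (h : QFDual.IsDedekindDefined A K B L) :
    ∃ e : QFDual.complementary A K B L ≃ₗ[B] Disc.Omega A B,
      ∀ (x : QFDual.complementary A K B L) (b : B),
        algebraMap A K ((e x).toLinearMap b) = Algebra.trace K L ((x : L) * algebraMap B L b) := by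
  classical
  have := h.etale
  have := h.free
  have := h.finiteKL
  have := h.isFractionRing
  have hinjK : Function.Injective (algebraMap A K) := IsFractionRing.injective A K
  have hb := isBaseChange_toL h
  have hBL : ∀ (a : A) (b : B), algebraMap B L (a • b) = a • algebraMap B L b := fun a b => by
    rw [Algebra.smul_def, Algebra.smul_def, map_mul, ← IsScalarTower.algebraMap_apply]
  choose f hf using fun (x : QFDual.complementary A K B L) (b : B) => RingHom.mem_range.1 (x.2 b)
  let F : QFDual.complementary A K B L →ₗ[B] Disc.Omega A B :=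
    { toFun := fun x => ⟨{ toFun := f x
                           map_add' := fun b b' => hinjK (by simp [hf, mul_add, map_add])
                           map_smul' := fun a b => hinjK (by
                             rw [hf, RingHom.id_apply, hBL, ← algebraMap_smul K a (algebraMap B L b),
                               mul_smul_comm, map_smul, smul_eq_mul, smul_eq_mul, map_mul (algebraMap A K), hf]) }⟩
      map_add' := fun x y => Disc.Omega.ext (LinearMap.ext fun b => hinjK (by simp [hf, add_mul]))
      map_smul' := fun c x => Disc.Omega.ext (LinearMap.ext fun b => hinjK (by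
        simp only [LinearMap.coe_mk, AddHom.coe_mk, RingHom.id_apply, Disc.Omega.smul_toLinearMap_apply, hf]
        rw [map_mul (algebraMap B L)]
        show Algebra.trace K L ((c • (x : L)) * _) = _
        rw [Algebra.smul_def]
        congr 1
        ring)) }
  have hF : ∀ (x : QFDual.complementary A K B L) (b : B),
      algebraMap A K ((F x).toLinearMap b) = Algebra.trace K L ((x : L) * algebraMap B L b) := hf
  have hinj : Function.Injective F := by
    intro x y hxy
    apply Subtype.ext
    apply (trace_bijective (R := K) (L := L)).1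
    refine hb.algHom_ext _ _ fun b => ?_
    show Algebra.traceForm K L x (algebraMap B L b) = Algebra.traceForm K L y (algebraMap B L b)
    rw [Algebra.traceForm_apply, Algebra.traceForm_apply, ← hF, ← hF, hxy]
  have hsurj : Function.Surjective F := by
    intro φ
    obtain ⟨x, hx⟩ := (trace_bijective (R := K) (L := L)).2 (hb.lift ((Algebra.linearMap A K) ∘ₗ φ.toLinearMap))
    have hx' : ∀ b : B, Algebra.trace K L (x * algebraMap B L b) = algebraMap A K (φ.toLinearMap b) := by
      intro b
      rw [← Algebra.traceForm_apply, hx]
      exact hb.lift_eq _ b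
    exact ⟨⟨x, fun b => ⟨_, (hx' b).symm⟩⟩,
      Disc.Omega.ext (LinearMap.ext fun b => hinjK ((hF _ b).trans (hx' b)))⟩
  exact ⟨LinearEquiv.ofBijective F ⟨hinj, hsurj⟩, hF⟩

theorem algebraMap_trace (h : QFDual.IsDedekindDefined A K B L) [Module.Free A B] [Module.Finite A B] (b : B) :
    Algebra.trace K L (algebraMap B L b) = algebraMap A K (Algebra.trace A B b) := by
  have hb := isBaseChange_toL h
  have := h.free
  have := h.finiteKL
  rw [Algebra.trace_apply, Algebra.trace_apply, ← LinearMap.trace_baseChange,
    ← LinearMap.trace_conj' _ hb.equiv]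
  congr 1
  refine hb.algHom_ext _ _ fun y => ?_
  have e1 : hb.equiv.symm (algebraMap B L y) = (1 : K) ⊗ₜ y := hb.equiv_symm_apply y
  have e2 : hb.equiv ((1 : K) ⊗ₜ (b * y)) = algebraMap B L (b * y) :=
    (hb.equiv_tmul _ _).trans (one_smul _ _)
  simp [LinearEquiv.conj_apply, e1, e2]

end Groth.L29.Trace
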