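import Mathlib.CategoryTheory.Linear.Basic
import Mathlib.LinearAlgebra.Dual.Defs
import Mathlib.LinearAlgebra.Dual.Lemmas
import Mathlib.CategoryTheory.Equivalence
import Mathlib.CategoryTheory.Linear.LinearFunctor
import Mathlib.CategoryTheory.Preadditive.AdditiveFunctor

/-! Serre functors on linear categories with finite-dimensional Hom spaces. -/

universe w v u

open CategoryTheory

namespace Groth.L29.Serre

variable {k : Type w} [Field k] {T : Type u} [Category.{v} T] [Preadditive T] [Linear k T]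

/-- Serre data: natural perfect pairings `Hom(X,Y) ≅ Hom(Y, S X)^∨`. -/
structure Data (S : T ⥤ T) where
  c : ∀ X Y : T, (X ⟶ Y) ≃ₗ[k] Module.Dual k (Y ⟶ S.obj X)
  nat₁ : ∀ (X Y Y' : T) (f : X ⟶ Y) (g : Y ⟶ Y'),
    c X Y' (f ≫ g) = (c X Y f) ∘ₗ Linear.leftComp k (S.obj X) g
  nat₂ : ∀ (X' X Y : T) (a : X' ⟶ X) (f : X ⟶ Y),
    c X' Y (a ≫ f) = (c X Y f) ∘ₗ Linear.rightComp k Y (S.map a)

variable [∀ X Y : T, Module.Finite k (X ⟶ Y)] {S S' : T ⥤ T}

theorem Data.nat₁_apply (d : Data (k := k) S) {X Y Y' : T} (f : X ⟶ Y) (g : Y ⟶ Y') (h : Y' ⟶ S.obj X) :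
    d.c X Y' (f ≫ g) h = d.c X Y f (g ≫ h) := by
  rw [d.nat₁]; rfl

theorem Data.nat₂_apply (d : Data (k := k) S) {X' X Y : T} (a : X' ⟶ X) (f : X ⟶ Y) (h : Y ⟶ S.obj X') :
    d.c X' Y (a ≫ f) h = d.c X Y f (h ≫ S.map a) := by
  rw [d.nat₂]; rfl

theorem Data.ext_right (d : Data (k := k) S) {X Y : T} {a b : Y ⟶ S.obj X}
    (h : ∀ f : X ⟶ Y, d.c X Y f a = d.c X Y f b) : a = b := by
  apply Module.eval_apply_injective k
  refine LinearMap.ext fun ξ => ?_
  simpa using h ((d.c X Y).symm ξ)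

/-- The comparison component. -/
noncomputable def comp (d : Data (k := k) S) (d' : Data (k := k) S') (X : T) : S.obj X ⟶ S'.obj X :=
  (Module.evalEquiv k (S.obj X ⟶ S'.obj X)).symm
    { toFun := fun ξ => d.c X (S.obj X) ((d'.c X (S.obj X)).symm ξ) (𝟙 _)
      map_add' := fun a b => by simp
      map_smul' := fun r a => by simp }

theorem comp_spec (d : Data (k := k) S) (d' : Data (k := k) S') {X Y : T} (f : X ⟶ Y) (g : Y ⟶ S.obj X) :
    d'.c X Y f (g ≫ comp d d' X) = d.c X Y f g := by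
  rw [← Data.nat₁_apply, comp, Module.apply_evalEquiv_symm_apply]
  simp [Data.nat₁_apply]

theorem comp_unique (d : Data (k := k) S) (d' : Data (k := k) S') {X : T} (φ : S.obj X ⟶ S'.obj X)
    (h : ∀ (f : X ⟶ S.obj X), d'.c X _ f φ = d.c X _ f (𝟙 _)) : φ = comp d d' X := by
  refine Data.ext_right d' fun f => ?_
  rw [h, ← comp_spec d d' f (𝟙 _), Category.id_comp]

theorem comp_natural (d : Data (k := k) S) (d' : Data (k := k) S') {X' X : T} (a : X' ⟶ X) :
    S.map a ≫ comp d d' X = comp d d' X' ≫ S'.map a := by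
  refine Data.ext_right d' fun f => ?_
  have h1 := comp_spec d d' f (S.map a)
  have h2 := d.nat₂_apply a f (𝟙 _)
  rw [Category.id_comp] at h2
  have h3 := comp_spec d d' (a ≫ f) (𝟙 _)
  rw [Category.id_comp, d'.nat₂_apply] at h3
  rw [h1, ← h2, h3]

theorem comp_comp (d : Data (k := k) S) (d' : Data (k := k) S') (X : T) :
    comp d d' X ≫ comp d' d X = 𝟙 _ := by
  refine Data.ext_right d fun f => ?_
  rw [comp_spec, ← Category.id_comp (comp d d' X), comp_spec]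

/-- The comparison isomorphism. -/
noncomputable def iso (d : Data (k := k) S) (d' : Data (k := k) S') : S ≅ S' :=
  NatIso.ofComponents (fun X => ⟨comp d d' X, comp d' d X, comp_comp d d' X, comp_comp d' d X⟩)
    (fun a => comp_natural d d' a)

end Groth.L29.Serre

namespace Groth.L29.Serre

section Exists

variable {k : Type w} [Field k] {T : Type u} [Category.{v} T] [Preadditive T] [Linear k T]
  [∀ X Y : T, Module.Finite k (X ⟶ Y)]
variable (SX : T → T) (e : ∀ X Y : T, (Y ⟶ SX X) ≃ₗ[k] Module.Dual k (X ⟶ Y))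

/-- The action on morphisms of the candidate Serre functor. -/
noncomputable def mapEquiv (X' X : T) : (X' ⟶ X) ≃ₗ[k] (SX X' ⟶ SX X) :=
  ((Module.evalEquiv k (X' ⟶ X)).trans (e X' X).dualMap).trans (e X (SX X')).symm

theorem mapEquiv_spec (X' X : T) (a : X' ⟶ X) (f : X ⟶ SX X') :
    e X (SX X') (mapEquiv SX e X' X a) f = e X' X f a := by
  simp [mapEquiv]

theorem exists_equivalence
    (he : ∀ (X Y Y' : T) (g : Y' ⟶ Y) (f : Y ⟶ SX X),
      e X Y' (g ≫ f) = (e X Y f) ∘ₗ Linear.rightComp k X g)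
    (hR : ∀ X : T, ∃ (RX : T) (r : ∀ Y : T, (RX ⟶ Y) ≃ₗ[k] Module.Dual k (Y ⟶ X)),
        ∀ (Y Y' : T) (g : Y ⟶ Y') (f : RX ⟶ Y),
          r Y' (f ≫ g) = (r Y f) ∘ₗ Linear.leftComp k X g) :
    ∃ (S : T ≌ T) (_ : S.functor.Additive) (_ : S.functor.Linear k)
        (c : ∀ X Y : T, (X ⟶ Y) ≃ₗ[k] Module.Dual k (Y ⟶ S.functor.obj X)),
        (∀ (X Y Y' : T) (f : X ⟶ Y) (g : Y ⟶ Y'),
          c X Y' (f ≫ g) = (c X Y f) ∘ₗ Linear.leftComp k (S.functor.obj X) g) ∧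
        (∀ (X' X Y : T) (a : X' ⟶ X) (f : X ⟶ Y),
          c X' Y (a ≫ f) = (c X Y f) ∘ₗ Linear.rightComp k Y (S.functor.map a)) := by
  have he' : ∀ (X Y Y' : T) (g : Y' ⟶ Y) (f : Y ⟶ SX X) (h : X ⟶ Y'),
      e X Y' (g ≫ f) h = e X Y f (h ≫ g) := fun X Y Y' g f h => by rw [he]; rfl
  have key : ∀ (X' X Y : T) (a : X' ⟶ X) (g : Y ⟶ SX X') (f : X ⟶ Y),
      e X Y (g ≫ mapEquiv SX e X' X a) f = e X' Y g (a ≫ f) := by
    intro X' X Y a g f
    rw [he', mapEquiv_spec, he']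
  have hid : ∀ X : T, mapEquiv SX e X X (𝟙 X) = 𝟙 _ := fun X => by
    refine (e X (SX X)).injective (LinearMap.ext fun f => ?_)
    rw [mapEquiv_spec]
    simpa using he' X (SX X) X f (𝟙 _) (𝟙 X)
  have hcomp : ∀ (X'' X' X : T) (b : X'' ⟶ X') (a : X' ⟶ X),
      mapEquiv SX e X'' X (b ≫ a) = mapEquiv SX e X'' X' b ≫ mapEquiv SX e X' X a := fun X'' X' X b a => by
    refine (e X (SX X'')).injective (LinearMap.ext fun f => ?_)
    rw [mapEquiv_spec, key, mapEquiv_spec, he']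
  let S : T ⥤ T :=
    { obj := SX, map := fun {X' X} a => mapEquiv SX e X' X a,
      map_id := hid, map_comp := fun b a => hcomp _ _ _ b a }
  haveI hadd : S.Additive := ⟨fun {_ _ f g} => map_add (mapEquiv SX e _ _) f g⟩
  haveI hlin : S.Linear k := ⟨fun f r => map_smul (mapEquiv SX e _ _) r f⟩
  haveI : S.Full := ⟨fun {X' X} => (mapEquiv SX e X' X).surjective⟩
  haveI : S.Faithful := ⟨fun {X' X a b} h => (mapEquiv SX e X' X).injective h⟩
  haveI : S.EssSurj := by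
    refine ⟨fun Y => ?_⟩
    obtain ⟨RY, r, hr⟩ := hR Y
    let θ : ∀ Z : T, (Z ⟶ Y) ≃ₗ[k] (Z ⟶ SX RY) := fun Z =>
      ((Module.evalEquiv k (Z ⟶ Y)).trans (r Z).dualMap).trans (e RY Z).symm
    have hθ : ∀ (Z : T) (f : Z ⟶ Y) (h : RY ⟶ Z), e RY Z (θ Z f) h = r Z h f := fun Z f h => by
      simp [θ]
    have hnat : ∀ (Z Z' : T) (g : Z' ⟶ Z) (f : Z ⟶ Y), θ Z' (g ≫ f) = g ≫ θ Z f := fun Z Z' g f => by
      refine (e RY Z').injective (LinearMap.ext fun h => ?_)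
      rw [hθ, he', hθ, hr]; rfl
    refine ⟨RY, ⟨⟨(θ (SX RY)).symm (𝟙 _), θ Y (𝟙 _), ?_, ?_⟩⟩⟩
    · rw [← hnat, Category.comp_id, LinearEquiv.apply_symm_apply]
    · apply (θ Y).injective
      rw [hnat, LinearEquiv.apply_symm_apply]
      exact Category.comp_id _
  haveI : S.IsEquivalence := { }
  let c : ∀ X Y : T, (X ⟶ Y) ≃ₗ[k] Module.Dual k (Y ⟶ S.obj X) := fun X Y =>
    (Module.evalEquiv k (X ⟶ Y)).trans (e X Y).dualMap
  refine ⟨S.asEquivalence, hadd, hlin, c, fun X Y Y' f g => LinearMap.ext fun h => ?_,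
    fun X' X Y a f => LinearMap.ext fun h => ?_⟩
  · exact (he' X Y' Y g h f).symm
  · exact (key X' X Y a h f).symm

end Exists

end Groth.L29.Serre
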