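import Groth.Prelude.Def_QFDual
import Mathlib.Algebra.Module.FinitePresentation
import Mathlib.LinearAlgebra.Dual.BaseChange
import Mathlib.RingTheory.PicardGroup
import Mathlib.RingTheory.LocalRing.Module
import Mathlib.RingTheory.Support
import Mathlib.RingTheory.Flat.Stability
import Mathlib.LinearAlgebra.Trace

/-! Base change of `Hom_A(B, A)` and of the different of a finite free algebra. -/

universe u

open TensorProduct

namespace Groth.L29.QF

section Omega

variable {A B' : Type u} [CommRing A] [CommRing B'] [Algebra A B']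

/-- The `A`-module structure on `Hom_A(B', A)` inherited from the `B'`-module structure. -/
@[implicit_reducible] def omegaModule : Module A (Disc.Omega A B') := Module.compHom _ (algebraMap A B')

attribute [local instance] omegaModule

instance omegaTower : IsScalarTower A B' (Disc.Omega A B') :=
  IsScalarTower.of_algebraMap_smul fun _ _ => rfl

theorem smul_toLinearMap (a : A) (φ : Disc.Omega A B') :
    (a • φ).toLinearMap = a • φ.toLinearMap := by
  refine LinearMap.ext fun x => ?_
  show φ.toLinearMap (algebraMap A B' a * x) = _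
  rw [← Algebra.smul_def, map_smul]; rfl

/-- `Hom_A(B', A)` with its two descriptions. -/
def omegaEquiv : Disc.Omega A B' ≃ₗ[A] Module.Dual A B' where
  toFun φ := φ.toLinearMap
  invFun f := ⟨f⟩
  map_add' _ _ := rfl
  map_smul' := smul_toLinearMap
  left_inv _ := rfl
  right_inv _ := rfl

variable {A₁ B'₁ : Type u} [CommRing A₁] [CommRing B'₁]
  [Algebra A A₁] [Algebra B' B'₁] [Algebra A₁ B'₁] [Algebra A B'₁]
  [IsScalarTower A A₁ B'₁] [IsScalarTower A B' B'₁]

/-- The module structure on the target of `QFDual.bcFin` over the source ring. -/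
@[implicit_reducible] def omegaModuleBot : Module B' (Disc.Omega A₁ B'₁) :=
  Module.compHom _ (algebraMap B' B'₁)

attribute [local instance] omegaModuleBot

omit [Algebra A A₁] [Algebra A B'₁] [IsScalarTower A A₁ B'₁] [IsScalarTower A B' B'₁] [Algebra A B'] in
theorem omegaTowerBot : IsScalarTower B' B'₁ (Disc.Omega A₁ B'₁) :=
  IsScalarTower.of_algebraMap_smul fun _ _ => rfl

attribute [local instance] omegaTowerBot

/-- The `B'₁`-linear extension of `QFDual.bcFin`. -/
noncomputable def bcLin (h : Algebra.IsPushout A A₁ B' B'₁) :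
    B'₁ ⊗[B'] Disc.Omega A B' →ₗ[B'₁] Disc.Omega A₁ B'₁ :=
  TensorProduct.AlgebraTensorModule.lift
    { toFun := fun b₁ =>
        { toFun := fun φ => b₁ • QFDual.bcFin h φ
          map_add' := fun φ ψ => by simp
          map_smul' := fun b' φ => by
            rw [LinearMap.map_smulₛₗ, RingHom.id_apply, ← mul_smul, mul_comm b₁, mul_smul,
              ← algebraMap_smul B'₁ b' (b₁ • QFDual.bcFin h φ)] }
      map_add' := fun b₁ b₂ => LinearMap.ext fun φ => add_smul b₁ b₂ (QFDual.bcFin h φ)
      map_smul' := fun c b₁ => LinearMap.ext fun φ => mul_smul c b₁ (QFDual.bcFin h φ) }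

@[simp] theorem bcLin_tmul (h : Algebra.IsPushout A A₁ B' B'₁) (b₁ : B'₁) (φ : Disc.Omega A B') :
    bcLin h (b₁ ⊗ₜ φ) = b₁ • QFDual.bcFin h φ := rfl

theorem bcLin_bijective (h : Algebra.IsPushout A A₁ B' B'₁)
    (hg : IsBaseChange A₁ (h.out.toDual)) : Function.Bijective (bcLin h) := by
  let _ := h
  let e0 : B'₁ ⊗[B'] Disc.Omega A B' ≃ₗ[A₁] A₁ ⊗[A] Disc.Omega A B' :=
    Algebra.IsPushout.cancelBaseChange A A₁ B' B'₁ (Disc.Omega A B')
  let e : A₁ ⊗[A] Disc.Omega A B' ≃ₗ[A₁] Module.Dual A₁ B'₁ :=
    ((omegaEquiv (A := A) (B' := B')).baseChange A A₁ _ _).trans hg.equiv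
  have hkey : ∀ z, (bcLin h (e0.symm z)).toLinearMap = e z := by
    intro z
    induction z using TensorProduct.induction_on with
    | zero => simp
    | add a b ha hb => simp [map_add, ha, hb]
    | tmul a φ =>
      simp only [e0, e, Algebra.IsPushout.cancelBaseChange_symm_tmul, bcLin_tmul, LinearEquiv.trans_apply]
      rw [show (omegaEquiv (A := A) (B' := B')).baseChange A A₁ _ _ (a ⊗ₜ φ) = a ⊗ₜ φ.toLinearMap from rfl,
        IsBaseChange.equiv_tmul]
      refine LinearMap.ext fun x => ?_
      rw [Disc.Omega.smul_toLinearMap_apply, ← Algebra.smul_def, map_smul]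
      rfl
  constructor
  · intro x y hxy
    obtain ⟨x, rfl⟩ := e0.symm.surjective x
    obtain ⟨y, rfl⟩ := e0.symm.surjective y
    have := congrArg Disc.Omega.toLinearMap hxy
    rw [hkey, hkey] at this
    rw [e.injective this]
  · intro ψ
    refine ⟨e0.symm (e.symm ψ.toLinearMap), Disc.Omega.ext ?_⟩
    rw [hkey, LinearEquiv.apply_symm_apply]

theorem isBaseChange_toDual_of_flat (h : Algebra.IsPushout A A₁ B' B'₁) [Module.Flat A A₁]
    [Module.FinitePresentation A B'] : IsBaseChange A₁ (h.out.toDual) := by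
  let E : (A₁ ⊗[A] B' →ₗ[A₁] A₁ ⊗[A] A) ≃ₗ[A₁] Module.Dual A₁ B'₁ :=
    (TensorProduct.AlgebraTensorModule.rid A A₁ A₁).congrRight.trans (Module.Dual.congr h.out.equiv)
  refine IsBaseChange.of_equiv
    ((Module.FinitePresentation.isBaseChange_map A B' A A₁).equiv.trans E) fun f => ?_
  rw [LinearEquiv.trans_apply, IsBaseChange.equiv_tmul, one_smul, IsBaseChange.toDual_apply]
  rfl

theorem omegaBC_bijective (h : Algebra.IsPushout A A₁ B' B'₁)
    (hg : IsBaseChange A₁ (h.out.toDual))
    {B₁ : Type u} [CommRing B₁] [Algebra B'₁ B₁] [Algebra B' B₁] [IsScalarTower B' B'₁ B₁] :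
    Function.Bijective (QFDual.omegaBC (B₁ := B₁) h) := by
  let e : B₁ ⊗[B'₁] (B'₁ ⊗[B'] Disc.Omega A B') ≃ₗ[B₁] QFDual.omega A B' B₁ :=
    AlgebraTensorModule.cancelBaseChange B' B'₁ B₁ B₁ (Disc.Omega A B')
  let g : B'₁ ⊗[B'] Disc.Omega A B' ≃ₗ[B'₁] Disc.Omega A₁ B'₁ :=
    LinearEquiv.ofBijective (bcLin h) (bcLin_bijective h hg)
  have heq : ∀ z, QFDual.omegaBC (B₁ := B₁) h z = (g.baseChange B'₁ B₁ _ _) (e.symm z) := by
    intro z
    induction z using TensorProduct.induction_on with
    | zero => simp
    | add a b ha hb => simp [map_add, ha, hb]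
    | tmul b φ =>
      simp only [e, AlgebraTensorModule.cancelBaseChange_symm_tmul, QFDual.omegaBC_tmul]
      show _ = b ⊗ₜ g ((1 : B'₁) ⊗ₜ φ)
      simp [g]
  rw [funext heq]
  exact (g.baseChange B'₁ B₁ _ _).bijective.comp e.symm.bijective

/-- `bcFin` as a linear map over the source ring. -/
noncomputable def bcFinLin (h : Algebra.IsPushout A A₁ B' B'₁) :
    Disc.Omega A B' →ₗ[B'] Disc.Omega A₁ B'₁ where
  toFun := QFDual.bcFin h
  map_add' := map_add _
  map_smul' b φ := by rw [LinearMap.map_smulₛₗ, RingHom.id_apply]; rfl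

theorem isBaseChange_bcFinLin (h : Algebra.IsPushout A A₁ B' B'₁) [Module.Free A B'] [Module.Finite A B'] :
    IsBaseChange B'₁ (bcFinLin h) :=
  IsBaseChange.of_equiv (LinearEquiv.ofBijective (bcLin h) (bcLin_bijective h h.out.dual))
    fun φ => by simp [bcFinLin]

theorem finite_omega [Module.Free A B'] [Module.Finite A B'] : Module.Finite B' (Disc.Omega A B') :=
  have := Module.Finite.equiv (omegaEquiv (A := A) (B' := B')).symm
  Module.Finite.of_restrictScalars_finite A B' _

theorem bcFin_trace (h : Algebra.IsPushout A A₁ B' B'₁) [Module.Free A B'] [Module.Finite A B']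
    [Module.Free A₁ B'₁] [Module.Finite A₁ B'₁] :
    bcFinLin h (Disc.Omega.trace A B') = Disc.Omega.trace A₁ B'₁ := by
  refine Disc.Omega.ext (h.out.algHom_ext _ _ fun x => ?_)
  refine (h.out.toDual_comp_apply _ x).trans ?_
  show algebraMap A A₁ (Algebra.trace A B' x) = Algebra.trace A₁ B'₁ (algebraMap B' B'₁ x)
  rw [Algebra.trace_apply, Algebra.trace_apply, ← LinearMap.trace_baseChange,
    ← LinearMap.trace_conj' _ h.out.equiv]
  congr 1
  refine h.out.algHom_ext _ _ fun y => ?_
  have e1 : h.out.equiv.symm (algebraMap B' B'₁ y) = (1 : A₁) ⊗ₜ y := h.out.equiv_symm_apply y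
  have e2 : h.out.equiv ((1 : A₁) ⊗ₜ (x * y)) = algebraMap B' B'₁ (x * y) :=
    (h.out.equiv_tmul _ _).trans (one_smul _ _)
  simp [LinearEquiv.conj_apply, e1, e2]

end Omega

section Different

variable {B B' M M' : Type u} [CommRing B] [CommRing B'] [Algebra B B']
  [AddCommGroup M] [Module B M] [AddCommGroup M'] [Module B M'] [Module B' M'] [IsScalarTower B B' M']
  {j : M →ₗ[B] M'} (hj : IsBaseChange B' j) (τ : M)

include hj

theorem map_different_le :
    Ideal.map (algebraMap B B') (QFDual.different B τ) ≤ QFDual.different B' (j τ) := by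
  refine Ideal.map_le_iff_le_comap.2 fun b hb => ?_
  rw [Ideal.mem_comap, QFDual.mem_different_iff]
  intro m'
  induction m' using hj.inductionOn with
  | zero => exact ⟨0, by simp⟩
  | tmul m =>
    obtain ⟨c, hc⟩ := (QFDual.mem_different_iff B τ b).1 hb m
    exact ⟨algebraMap B B' c, by rw [algebraMap_smul, algebraMap_smul, ← map_smul, ← map_smul, hc]⟩
  | smul r m hm =>
    obtain ⟨c, hc⟩ := hm
    exact ⟨r * c, by rw [mul_smul, hc, smul_comm]⟩
  | add m m₁ h₁ h₂ =>
    obtain ⟨c, hc⟩ := h₁
    obtain ⟨d, hd⟩ := h₂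
    exact ⟨c + d, by rw [add_smul, hc, hd, smul_add]⟩

theorem map_different_eq_of_invertible [Module.Invertible B M] :
    Ideal.map (algebraMap B B') (QFDual.different B τ) = QFDual.different B' (j τ) := by
  refine le_antisymm (map_different_le hj τ) fun b' hb' => ?_
  have hψ : ∀ ψ : Module.Dual B M, ψ τ ∈ QFDual.different B τ := by
    intro ψ
    rw [QFDual.mem_different_iff]
    intro m
    refine ⟨ψ m, ?_⟩
    have := congrArg ((TensorProduct.lid B M).toLinearMap ∘ₗ ψ.rTensor M)
      (Module.Invertible.tmul_comm (R := B) (m₁ := τ) (m₂ := m))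
    simpa using this.symm
  have hgen : ∀ z : Module.Dual B M ⊗[B] M,
      b' * algebraMap B B' (contractLeft B M z) ∈ Ideal.map (algebraMap B B') (QFDual.different B τ) := by
    intro z
    induction z using TensorProduct.induction_on with
    | zero => simp
    | add a b ha hb => simpa [mul_add] using add_mem ha hb
    | tmul ψ m =>
      let ψ' : M' →ₗ[B'] B' := hj.lift ((Algebra.linearMap B B').comp ψ)
      have hψ' : ∀ x, ψ' (j x) = algebraMap B B' (ψ x) := fun x => hj.lift_eq _ x
      obtain ⟨c, hc⟩ := (QFDual.mem_different_iff B' (j τ) b').1 hb' (j m)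
      have := congrArg ψ' hc
      rw [map_smul, map_smul, hψ', hψ', smul_eq_mul, smul_eq_mul] at this
      rw [contractLeft_apply, ← this]
      exact Ideal.mul_mem_left _ _ (Ideal.mem_map_of_mem _ (hψ ψ))
  obtain ⟨z, hz⟩ := (Module.Invertible.bijective (R := B) (M := M)).2 1
  simpa [hz] using hgen z

theorem map_different_eq_of_flat [Module.Flat B B'] [Module.Finite B M] :
    Ideal.map (algebraMap B B') (QFDual.different B τ) = QFDual.different B' (j τ) := by
  refine le_antisymm (map_different_le hj τ) fun b' hb' => ?_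
  obtain ⟨n, e, he⟩ := Module.Finite.exists_fin (R := B) (M := M)
  have hd : ∀ b : B, (∀ i, ∃ c : B, c • τ = b • e i) → b ∈ QFDual.different B τ := by
    intro b hb
    rw [QFDual.mem_different_iff]
    intro m
    induction (he.symm ▸ Submodule.mem_top : m ∈ Submodule.span B (Set.range e))
      using Submodule.span_induction with
    | mem x hx => obtain ⟨i, rfl⟩ := hx; exact hb i
    | zero => exact ⟨0, by simp⟩
    | add x y _ _ h₁ h₂ =>
      obtain ⟨c, hc⟩ := h₁
      obtain ⟨d, hd⟩ := h₂
      exact ⟨c + d, by rw [add_smul, hc, hd, smul_add]⟩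
    | smul a x _ h =>
      obtain ⟨c, hc⟩ := h
      exact ⟨a * c, by rw [mul_smul, hc, smul_comm]⟩
  let T : (Option (Fin n) → B) →ₗ[B] (Fin n → M) :=
    LinearMap.pi fun i => LinearMap.toSpanSingleton B M (e i) ∘ₗ LinearMap.proj none -
      LinearMap.toSpanSingleton B M τ ∘ₗ LinearMap.proj (some i)
  have hP : IsBaseChange B' ((Algebra.linearMap B B').compLeft (Option (Fin n))) :=
    (IsBaseChange.linearMap B B').finitePow _
  have hQ : IsBaseChange B' (j.compLeft (Fin n)) := hj.finitePow _
  choose c hc using fun i => (QFDual.mem_different_iff B' (j τ) b').1 hb' (j (e i))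
  let x : Option (Fin n) → B' := fun o => o.elim b' c
  let T' : (Option (Fin n) → B') →ₗ[B'] (Fin n → M') :=
    LinearMap.pi fun i => LinearMap.toSpanSingleton B' M' (j (e i)) ∘ₗ LinearMap.proj none -
      LinearMap.toSpanSingleton B' M' (j τ) ∘ₗ LinearMap.proj (some i)
  have hTT' : ∀ z, T' (hP.equiv z) = hQ.equiv (T.baseChange B' z) := by
    intro z
    induction z using TensorProduct.induction_on with
    | zero => simp
    | add a b ha hb => simp [map_add, ha, hb]
    | tmul r v =>
      rw [LinearMap.baseChange_tmul, IsBaseChange.equiv_tmul, IsBaseChange.equiv_tmul, map_smul]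
      congr 1
      ext i
      simp [T, T', map_sub]
  have hx : T.baseChange B' (hP.equiv.symm x) = 0 := by
    apply hQ.equiv.injective
    rw [← hTT', LinearEquiv.apply_symm_apply, map_zero]
    ext i
    simp [T', x, hc]
  have hexact := Module.Flat.lTensor_exact (R := B) B' (LinearMap.exact_subtype_ker_map T)
  obtain ⟨w, hw⟩ := (hexact _).1 hx
  have hmem : ∀ w, (hP.equiv ((LinearMap.ker T).subtype.lTensor B' w)) none ∈
      Ideal.map (algebraMap B B') (QFDual.different B τ) := by
    intro w
    induction w using TensorProduct.induction_on with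
    | zero => simp
    | add a b ha hb => simpa [map_add] using add_mem ha hb
    | tmul r v =>
      rw [LinearMap.lTensor_tmul, IsBaseChange.equiv_tmul]
      refine Ideal.mul_mem_left _ r (Ideal.mem_map_of_mem _ (hd _ fun i => ⟨v.1 (some i), ?_⟩))
      have := congrFun (LinearMap.mem_ker.1 v.2) i
      simp [T, sub_eq_zero] at this
      exact this.symm
  have h2 := hmem w
  rw [hw] at h2
  simpa [x] using h2

theorem radical_map_different_eq [Module.Finite B M] :
    (Ideal.map (algebraMap B B') (QFDual.different B τ)).radical =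
      (QFDual.different B' (j τ)).radical := by
  refine le_antisymm (Ideal.radical_mono (map_different_le hj τ)) ?_
  refine Ideal.radical_le_radical_iff.2 ?_
  rw [Ideal.radical_eq_sInf]
  refine le_sInf fun q hq => ?_
  obtain ⟨hle, hprime⟩ := hq
  intro b' hb'
  by_contra hbq
  -- `κ(q) ⊗ M` is spanned by the image of `τ`
  let κ := q.ResidueField
  have hspan : ∀ z : κ ⊗[B] M, ∃ c : κ, z = c ⊗ₜ τ := by
    have hu : algebraMap B' κ b' ≠ 0 := by
      rw [Ne, Ideal.algebraMap_residueField_eq_zero]; exact hbq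
    let α : M' →ₗ[B'] κ ⊗[B] M := hj.lift ((TensorProduct.mk B κ M) 1)
    have hα : ∀ m, α (j m) = (1 : κ) ⊗ₜ m := fun m => hj.lift_eq _ m
    intro z
    induction z using TensorProduct.induction_on with
    | zero => exact ⟨0, by simp⟩
    | add a b ha hb =>
      obtain ⟨c, rfl⟩ := ha
      obtain ⟨d, rfl⟩ := hb
      exact ⟨c + d, (add_tmul _ _ _).symm⟩
    | tmul k m =>
      obtain ⟨c, hc⟩ := (QFDual.mem_different_iff B' (j τ) b').1 hb' (j m)
      have := congrArg α hc
      rw [map_smul, map_smul, hα, hα, TensorProduct.smul_tmul', TensorProduct.smul_tmul',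
        Algebra.smul_def, Algebra.smul_def, mul_one, mul_one] at this
      refine ⟨k * (algebraMap B' κ b')⁻¹ * algebraMap B' κ c, ?_⟩
      have h2 := congrArg (fun y => (k * (algebraMap B' κ b')⁻¹) • y) this
      simp only [TensorProduct.smul_tmul', smul_eq_mul] at h2
      rw [mul_assoc k _ (algebraMap B' κ b'), inv_mul_cancel₀ hu, mul_one] at h2
      exact h2.symm
  let p : PrimeSpectrum B := ⟨q.comap (algebraMap B B'), inferInstance⟩
  have hsup : p ∈ Module.support B (M ⧸ (B ∙ τ)) := by
    rw [Module.support_eq_zeroLocus]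
    intro b hb
    refine hle (Ideal.mem_map_of_mem _ ?_)
    rw [QFDual.mem_different_iff]
    intro m
    have := Module.mem_annihilator.1 hb (Submodule.Quotient.mk m)
    rw [← Submodule.Quotient.mk_smul, Submodule.Quotient.mk_eq_zero, Submodule.mem_span_singleton] at this
    exact this
  rw [Module.mem_support_iff_nontrivial_residueField_tensorProduct] at hsup
  have hsub : Subsingleton (p.asIdeal.ResidueField ⊗[B] (M ⧸ (B ∙ τ))) := by
    let φ : p.asIdeal.ResidueField →ₐ[B] κ :=
      Ideal.ResidueField.mapₐ p.asIdeal q (Algebra.ofId B B') rfl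
    let i : p.asIdeal.ResidueField ⊗[B] (M ⧸ (B ∙ τ)) →ₗ[B] κ ⊗[B] (M ⧸ (B ∙ τ)) :=
      φ.toLinearMap.rTensor _
    have hinj : Function.Injective i := by
      have : Module.Flat p.asIdeal.ResidueField (p.asIdeal.ResidueField ⊗[B] (M ⧸ (B ∙ τ))) := inferInstance
      let _ : Algebra p.asIdeal.ResidueField κ := φ.toRingHom.toAlgebra
      have : IsScalarTower B p.asIdeal.ResidueField κ := IsScalarTower.of_algebraMap_eq fun x => (φ.commutes x).symm
      let e := AlgebraTensorModule.cancelBaseChange B p.asIdeal.ResidueField κ κ (M ⧸ (B ∙ τ))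
      have he : ∀ z, i z = e ((1 : κ) ⊗ₜ z) := by
        intro z
        induction z using TensorProduct.induction_on with
        | zero => simp
        | add a b ha hb => simp [TensorProduct.tmul_add, map_add, ha, hb]
        | tmul k m => simp [i, e, Algebra.smul_def, RingHom.algebraMap_toAlgebra]
      intro a b hab
      rw [he, he] at hab
      exact Module.Flat.tensorProduct_mk_injective p.asIdeal.ResidueField
        (p.asIdeal.ResidueField ⊗[B] (M ⧸ (B ∙ τ))) κ (e.injective hab)
    refine @Function.Injective.subsingleton _ _ _ hinj ?_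
    refine subsingleton_of_forall_eq 0 fun z => ?_
    obtain ⟨z, rfl⟩ := LinearMap.lTensor_surjective κ (B ∙ τ).mkQ_surjective z
    obtain ⟨c, rfl⟩ := hspan z
    rw [LinearMap.lTensor_tmul, Submodule.mkQ_apply,
      (Submodule.Quotient.mk_eq_zero _).2 (Submodule.mem_span_singleton_self τ), tmul_zero]
  exact not_subsingleton_iff_nontrivial.2 hsup hsub

end Different

end Groth.L29.QF
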