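import Mathlib.CategoryTheory.Adjunction.Basic

/-!
Compatibilities of base change maps built from a square of adjunctions.
-/

namespace Groth.L29.AdjSquare

open CategoryTheory

variable {CX CY CX' CY' : Type*} [Category CX] [Category CY] [Category CX'] [Category CY']
variable {F : CX ⥤ CY} {F' : CX' ⥤ CY'} {G : CY' ⥤ CY} {G' : CX' ⥤ CX}
variable {a : CY ⥤ CX} {a' : CY' ⥤ CX'} {L : CY ⥤ CY'} {L' : CX ⥤ CX'}
variable (adj : F ⊣ a) (adj' : F' ⊣ a') (e : G' ⋙ F ≅ F' ⋙ G) (adjg : L ⊣ G) (adjg' : L' ⊣ G')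

/-- the comparison map `G' a' ⟶ a G` -/
def xi (M : CY') : G'.obj (a'.obj M) ⟶ a.obj (G.obj M) :=
  adj.homEquiv _ _ (e.hom.app (a'.obj M) ≫ G.map (adj'.counit.app M))

lemma xi_natural {M N : CY'} (φ : M ⟶ N) :
    G'.map (a'.map φ) ≫ xi adj adj' e N = xi adj adj' e M ≫ a.map (G.map φ) := by
  have h1 : F.map (G'.map (a'.map φ)) ≫ e.hom.app (a'.obj N)
      = e.hom.app (a'.obj M) ≫ G.map (F'.map (a'.map φ)) := e.hom.naturality (a'.map φ)
  unfold xi
  rw [← Adjunction.homEquiv_naturality_left, ← Adjunction.homEquiv_naturality_right]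
  congr 1
  rw [reassoc_of% h1, Category.assoc, ← G.map_comp, ← G.map_comp]
  simp

lemma xi_eq (M : CY') :
    xi adj adj' e M = adj.unit.app (G'.obj (a'.obj M)) ≫
      a.map (e.hom.app (a'.obj M) ≫ G.map (adj'.counit.app M)) :=
  Adjunction.homEquiv_unit _ _ _ _

lemma map_xi_counit (M : CY') :
    F.map (xi adj adj' e M) ≫ adj.counit.app (G.obj M) =
      e.hom.app (a'.obj M) ≫ G.map (adj'.counit.app M) := by
  simp [xi_eq]

lemma trace_compat (K : CY) (hξ : IsIso (xi adj adj' e (L.obj K))) :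
    (adjg.homEquiv _ _).symm (F.map (adjg'.unit.app (a.obj K)) ≫ e.hom.app (L'.obj (a.obj K))) ≫
      F'.map (L'.map (a.map (adjg.unit.app K)) ≫
        L'.map (@inv _ _ _ _ (xi adj adj' e (L.obj K)) hξ) ≫ adjg'.counit.app (a'.obj (L.obj K))) ≫
      adj'.counit.app (L.obj K) = L.map (adj.counit.app K) := by
  haveI := hξ
  let α : L'.obj (a.obj K) ⟶ a'.obj (L.obj K) := L'.map (a.map (adjg.unit.app K)) ≫
        L'.map (inv (xi adj adj' e (L.obj K))) ≫ adjg'.counit.app (a'.obj (L.obj K))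
  change (adjg.homEquiv _ _).symm _ ≫ F'.map α ≫ _ = _
  have h1 : F.map (G'.map α) ≫ e.hom.app (a'.obj (L.obj K))
      = e.hom.app (L'.obj (a.obj K)) ≫ G.map (F'.map α) := e.hom.naturality α
  have h2 : adjg'.unit.app (a.obj K) ≫ G'.map α
      = a.map (adjg.unit.app K) ≫ inv (xi adj adj' e (L.obj K)) := by
    have h : α = L'.map (a.map (adjg.unit.app K) ≫ inv (xi adj adj' e (L.obj K))) ≫
        adjg'.counit.app (a'.obj (L.obj K)) := by
      rw [L'.map_comp, Category.assoc]
    rw [h, G'.map_comp]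
    erw [adjg'.unit_naturality_assoc]
    erw [adjg'.right_triangle_components]
    exact Category.comp_id _
  have key : F.map (adjg'.unit.app (a.obj K)) ≫ e.hom.app (L'.obj (a.obj K)) ≫
      G.map (F'.map α ≫ adj'.counit.app (L.obj K)) = adj.counit.app K ≫ adjg.unit.app K := by
    calc _ = F.map (adjg'.unit.app (a.obj K)) ≫ F.map (G'.map α) ≫ e.hom.app (a'.obj (L.obj K)) ≫
          G.map (adj'.counit.app (L.obj K)) := by rw [G.map_comp, ← reassoc_of% h1]
      _ = F.map (a.map (adjg.unit.app K) ≫ inv (xi adj adj' e (L.obj K))) ≫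
          F.map (xi adj adj' e (L.obj K)) ≫ adj.counit.app (G.obj (L.obj K)) := by
        rw [map_xi_counit, ← h2, F.map_comp, Category.assoc]
      _ = _ := by simp
  rw [Adjunction.homEquiv_counit, Category.assoc, ← adjg.counit_naturality, ← L.map_comp_assoc,
    Category.assoc, key, L.map_comp, Category.assoc]
  simp

lemma unit_compat (M : CX) (hξ : ∀ N, IsIso (xi adj adj' e N)) :
    adj'.unit.app (L'.obj M) =
      L'.map (adj.unit.app M) ≫
        (L'.map (a.map (adjg.unit.app (F.obj M))) ≫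
          L'.map (@inv _ _ _ _ (xi adj adj' e (L.obj (F.obj M))) (hξ _)) ≫
            adjg'.counit.app (a'.obj (L.obj (F.obj M)))) ≫
        a'.map ((adjg.homEquiv _ _).symm (F.map (adjg'.unit.app M) ≫ e.hom.app (L'.obj M))) := by
  haveI := hξ
  let β : L.obj (F.obj M) ⟶ F'.obj (L'.obj M) :=
    (adjg.homEquiv _ _).symm (F.map (adjg'.unit.app M) ≫ e.hom.app (L'.obj M))
  change _ = _ ≫ _ ≫ a'.map β
  have h1 : inv (xi adj adj' e (L.obj (F.obj M))) ≫ G'.map (a'.map β)
      = a.map (G.map β) ≫ inv (xi adj adj' e (F'.obj (L'.obj M))) := by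
    rw [IsIso.inv_comp_eq, ← Category.assoc, IsIso.eq_comp_inv, xi_natural]
  have h2 : adjg.unit.app (F.obj M) ≫ G.map β
      = F.map (adjg'.unit.app M) ≫ e.hom.app (L'.obj M) := by
    simp [β, Adjunction.homEquiv_counit]
  have h4 : G'.map (adj'.unit.app (L'.obj M)) ≫ xi adj adj' e (F'.obj (L'.obj M))
      = adj.unit.app _ ≫ a.map (e.hom.app (L'.obj M)) := by
    have h : F.map (G'.map (adj'.unit.app (L'.obj M))) ≫ e.hom.app (a'.obj (F'.obj (L'.obj M)))
        = e.hom.app (L'.obj M) ≫ G.map (F'.map (adj'.unit.app (L'.obj M))) :=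
      e.hom.naturality (adj'.unit.app (L'.obj M))
    have n1 : G'.map (adj'.unit.app (L'.obj M)) ≫ adj.unit.app _ =
        adj.unit.app (G'.obj (L'.obj M)) ≫ a.map (F.map (G'.map (adj'.unit.app (L'.obj M)))) :=
      adj.unit.naturality (G'.map (adj'.unit.app (L'.obj M)))
    rw [xi_eq]
    erw [reassoc_of% n1]
    rw [← a.map_comp]
    erw [reassoc_of% h]
    rw [← G.map_comp, adj'.left_triangle_components]
    simp
  have h4' : G'.map (adj'.unit.app (L'.obj M)) = adj.unit.app (G'.obj (L'.obj M)) ≫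
      a.map (e.hom.app (L'.obj M)) ≫ inv (xi adj adj' e (F'.obj (L'.obj M))) := by
    rw [← Category.assoc, IsIso.eq_comp_inv, h4]
  have key : adj.unit.app M ≫ a.map (adjg.unit.app (F.obj M)) ≫
      inv (xi adj adj' e (L.obj (F.obj M))) ≫ G'.map (a'.map β) =
      adjg'.unit.app M ≫ G'.map (adj'.unit.app (L'.obj M)) := by
    have n2 : adjg'.unit.app M ≫ adj.unit.app _ = adj.unit.app M ≫ a.map (F.map (adjg'.unit.app M)) :=
      adj.unit.naturality (adjg'.unit.app M)
    rw [h1, ← a.map_comp_assoc, h2, a.map_comp, Category.assoc, h4']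
    erw [reassoc_of% n2]
  simp only [Category.assoc]
  rw [← adjg'.counit_naturality, ← L'.map_comp_assoc, ← L'.map_comp_assoc, ← L'.map_comp_assoc]
  simp only [Category.assoc]
  rw [key]
  simp

end Groth.L29.AdjSquare
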