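import Mathlib.RingTheory.Spectrum.Prime.FreeLocus
import Mathlib.RingTheory.LocalRing.Module
import Mathlib.RingTheory.Localization.Module
import Mathlib.Algebra.Homology.ShortComplex.ModuleCat
import Mathlib.Algebra.Homology.ShortComplex.HomologicalComplex
import Mathlib.Algebra.Category.ModuleCat.Basic
import Mathlib.Algebra.Module.LocalizedModule.Exact
import Mathlib.Algebra.Ring.NegOnePow

/-!
Euler characteristic of a bounded exact complex of finite projective modules over a local ring.
-/

universe u

open CategoryTheory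

namespace Groth.L29.EulerChar

section Local

variable {B : Type u} [CommRing B] [IsLocalRing B] {M : ℤ → Type u} [∀ i, AddCommGroup (M i)]
  [∀ i, Module B (M i)] [∀ i, Module.Finite B (M i)] [∀ i, Module.Projective B (M i)]
  (f : ∀ i, M i →ₗ[B] M (i + 1))

theorem ker_fin_proj (hex : ∀ i, Function.Exact (f i) (f (i + 1))) (b : ℤ)
    (hb : ∀ i, b < i → Subsingleton (M i)) (i : ℤ) :
    (Module.Finite B (LinearMap.ker (f i)) ∧ Module.Projective B (LinearMap.ker (f i))) := by
  obtain ⟨n, hn⟩ : ∃ n : ℕ, b + 1 ≤ i + n := ⟨(b + 1 - i).toNat, by lia⟩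
  induction n generalizing i with
  | zero =>
    haveI := hb i (by lia)
    exact ⟨inferInstance, inferInstance⟩
  | succ n ih =>
    obtain ⟨_, _⟩ := ih (i + 1) (by lia)
    let p : M i →ₗ[B] LinearMap.ker (f (i + 1)) :=
      (f i).codRestrict _ fun x => (hex i (f i x)).2 ⟨x, rfl⟩
    have hp : Function.Surjective p := fun y => by
      obtain ⟨x, hx⟩ := (hex i y.1).1 y.2
      exact ⟨x, Subtype.ext hx⟩
    obtain ⟨s, hs⟩ := Module.projective_lifting_property p LinearMap.id hp
    let q : M i →ₗ[B] LinearMap.ker (f i) :=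
      (LinearMap.id - s ∘ₗ p).codRestrict _ fun x => by
        have h1 : p (x - s (p x)) = 0 := by
          rw [map_sub, show p (s (p x)) = p x from LinearMap.congr_fun hs (p x), sub_self]
        exact congrArg Subtype.val h1
    have hq : q ∘ₗ (LinearMap.ker (f i)).subtype = LinearMap.id := by
      refine LinearMap.ext fun x => Subtype.ext ?_
      have h0 : p x.1 = 0 := Subtype.ext x.2
      simp [q, h0]
    exact ⟨Module.Finite.of_surjective q (fun x => ⟨x.1, LinearMap.congr_fun hq x⟩),
      Module.Projective.of_split _ q hq⟩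

theorem finrank_eq (hex : ∀ i, Function.Exact (f i) (f (i + 1))) (b : ℤ)
    (hb : ∀ i, b < i → Subsingleton (M i)) (i : ℤ) :
    Module.finrank B (M i) =
      Module.finrank B (LinearMap.ker (f i)) + Module.finrank B (LinearMap.ker (f (i + 1))) := by
  obtain ⟨_, _⟩ := ker_fin_proj f hex b hb i
  obtain ⟨_, _⟩ := ker_fin_proj f hex b hb (i + 1)
  haveI : Module.Free B (LinearMap.ker (f i)) := Module.free_of_flat_of_isLocalRing
  haveI : Module.Free B (LinearMap.ker (f (i + 1))) := Module.free_of_flat_of_isLocalRing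
  let p : M i →ₗ[B] LinearMap.ker (f (i + 1)) :=
    (f i).codRestrict _ fun x => (hex i (f i x)).2 ⟨x, rfl⟩
  have hp : Function.Surjective p := fun y => by
    obtain ⟨x, hx⟩ := (hex i y.1).1 y.2
    exact ⟨x, Subtype.ext hx⟩
  obtain ⟨s, hs⟩ := Module.projective_lifting_property p LinearMap.id hp
  have hps : ∀ y, p (s y) = y := fun y => LinearMap.congr_fun hs y
  have hk : ∀ x : LinearMap.ker (f i), p x.1 = 0 := fun x => Subtype.ext x.2
  let e : (LinearMap.ker (f i) × LinearMap.ker (f (i + 1))) ≃ₗ[B] M i :=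
    LinearEquiv.ofBijective ((LinearMap.ker (f i)).subtype.coprod s) ⟨by
      refine (injective_iff_map_eq_zero _).2 ?_
      rintro ⟨x, y⟩ h
      have h1 : x.1 + s y = 0 := h
      have h2 : y = 0 := by
        have h3 := congrArg p h1
        rwa [map_add, hk, zero_add, hps, map_zero] at h3
      subst h2
      rw [map_zero, add_zero] at h1
      exact Prod.ext (Subtype.ext h1) rfl,
      fun x => ⟨(⟨x - s (p x), congrArg Subtype.val (show p (x - s (p x)) = 0 by
        rw [map_sub, hps, sub_self])⟩, p x), by simp⟩⟩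
  rw [← e.finrank_eq, Module.finrank_prod]

theorem sum_eq_zero (hex : ∀ i, Function.Exact (f i) (f (i + 1))) (a : ℤ) (n : ℕ)
    (ha : Subsingleton (M a)) (hb : ∀ i, a + n ≤ i → Subsingleton (M i)) :
    ∑ k ∈ Finset.range n, (((a + k).negOnePow : ℤˣ) : ℤ) * (Module.finrank B (M (a + k)) : ℤ) = 0 := by
  let g : ℕ → ℤ := fun k =>
    (((a + k).negOnePow : ℤˣ) : ℤ) * (Module.finrank B (LinearMap.ker (f (a + k))) : ℤ)
  have : ∀ k ∈ Finset.range n,
      (((a + k).negOnePow : ℤˣ) : ℤ) * (Module.finrank B (M (a + k)) : ℤ) = g k - g (k + 1) := by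
    intro k _
    have h : a + ((k + 1 : ℕ) : ℤ) = a + k + 1 := by lia
    simp only [g]
    rw [finrank_eq f hex (a + n) (fun i hi => hb i hi.le) (a + k), h, Int.negOnePow_succ]
    push_cast
    ring
  haveI hn := hb (a + n) le_rfl
  rw [Finset.sum_congr rfl this, Finset.sum_range_sub' g n]
  simp only [g]
  haveI : Subsingleton (M (a + ((0 : ℕ) : ℤ))) := by rwa [Nat.cast_zero, add_zero]
  rw [Module.finrank_zero_of_subsingleton (R := B) (M := LinearMap.ker (f (a + ((0 : ℕ) : ℤ)))),
    Module.finrank_zero_of_subsingleton (R := B) (M := LinearMap.ker (f (a + n)))]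
  simp

end Local

section Localise

variable {A : Type u} [CommRing A] (S : Submonoid A)

theorem exact_map_of_homology (P : CochainComplex (ModuleCat.{u} A) ℤ) (i j k : ℤ)
    (hij : i + 1 = j) (hjk : j + 1 = k) (h : Subsingleton (LocalizedModule S (P.homology j))) :
    Function.Exact (LocalizedModule.map S (P.d i j).hom) (LocalizedModule.map S (P.d j k).hom) := by
  let T := P.sc' i j k
  let e : P.homology j ≅ T.moduleCatLeftHomologyData.H :=
    P.homologyIsoSc' i j k (by simp; lia) (by simp; lia) ≪≫ T.moduleCatHomologyIso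
  intro x
  constructor
  · induction x using LocalizedModule.induction_on with
    | h m s =>
    intro hx
    rw [LocalizedModule.map_mk, ← LocalizedModule.zero_mk s, LocalizedModule.mk_eq] at hx
    obtain ⟨u₀, hu₀⟩ := hx
    let u : S := u₀ * s
    have hu : (u : A) • (P.d j k).hom m = 0 := by
      simpa [u, Submonoid.smul_def, smul_smul, smul_zero] using hu₀
    obtain ⟨v, hv⟩ := LocalizedModule.subsingleton_iff.mp h
      (e.inv ((LinearMap.range T.moduleCatToCycles).mkQ
        ⟨(u : A) • m, by rw [LinearMap.mem_ker]; exact (map_smul (P.d j k).hom _ m).trans hu⟩))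
    have h0 := congrArg e.hom hv.2
    rw [map_smul, map_zero, Iso.inv_hom_id_apply, Submodule.mkQ_apply] at h0
    erw [← Submodule.Quotient.mk_smul, Submodule.Quotient.mk_eq_zero] at h0
    obtain ⟨y, hy⟩ := h0
    have hy' : (P.d i j).hom y = v • ((u : A) • m) := congrArg Subtype.val hy
    refine ⟨LocalizedModule.mk y (⟨v, hv.1⟩ * u * s), ?_⟩
    rw [LocalizedModule.map_mk, hy', LocalizedModule.mk_eq]
    refine ⟨1, ?_⟩
    simp only [one_smul, Submonoid.smul_def, Submonoid.coe_mul, smul_smul]
    congr 1
    ring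
  · rintro ⟨y, rfl⟩
    induction y using LocalizedModule.induction_on with
    | h m s =>
    rw [LocalizedModule.map_mk, LocalizedModule.map_mk,
      show (P.d j k).hom ((P.d i j).hom m) = (P.d i j ≫ P.d j k).hom m from rfl, P.d_comp_d]
    simp

end Localise

end Groth.L29.EulerChar
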