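import Mathlib.CategoryTheory.Triangulated.Functor
import Mathlib.CategoryTheory.Triangulated.Triangulated
import Mathlib.CategoryTheory.Adjunction.FullyFaithful
import Mathlib.CategoryTheory.Adjunction.Basic

/-! Full faithfulness of exact functors with both adjoints, tested on a spanning class. -/

universe v v' u u'

open CategoryTheory CategoryTheory.Limits CategoryTheory.Pretriangulated

namespace Groth.L29.FF

variable {D : Type u} [Category.{v} D] [Preadditive D] [HasZeroObject D] [HasShift D ℤ]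
  [∀ n : ℤ, (shiftFunctor D n).Additive] [Pretriangulated D]
  {D' : Type u'} [Category.{v'} D'] [Preadditive D'] [HasZeroObject D'] [HasShift D' ℤ]
  (F : D ⥤ D') [F.CommShift ℤ]

/-- `F` is bijective on morphisms from `A` to `B`. -/
def Bij (A B : D) : Prop := Function.Bijective (fun f : A ⟶ B => F.map f)

omit [Preadditive D] [HasZeroObject D] [HasShift D ℤ] [∀ n : ℤ, (shiftFunctor D n).Additive]
  [Pretriangulated D] [Preadditive D'] [HasZeroObject D'] [HasShift D' ℤ] [F.CommShift ℤ] in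
variable {F} in
theorem Bij.of_iso {A A' B B' : D} (e : A ≅ A') (e' : B ≅ B') (h : Bij F A B) : Bij F A' B' := by
  constructor
  · intro f g hfg
    have : e.hom ≫ f ≫ e'.inv = e.hom ≫ g ≫ e'.inv :=
      h.1 (by simp only [F.map_comp]; rw [show F.map f = F.map g from hfg])
    simpa using this
  · intro φ
    obtain ⟨f, hf⟩ := h.2 (F.map e.hom ≫ φ ≫ F.map e'.inv)
    refine ⟨e.inv ≫ f ≫ e'.hom, ?_⟩
    dsimp only at hf ⊢
    simp only [F.map_comp, hf, Category.assoc]
    rw [← F.map_comp e'.inv, e'.inv_hom_id, F.map_id, Category.comp_id, ← F.map_comp_assoc,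
      e.inv_hom_id, F.map_id, Category.id_comp]

variable {F} in
omit [Preadditive D] [HasZeroObject D] [∀ n : ℤ, (shiftFunctor D n).Additive]
  [Pretriangulated D] [Preadditive D'] [HasZeroObject D'] in
theorem Bij.shift {A B : D} (n : ℤ) (h : Bij F A B) :
    Bij F (A⟦n⟧) (B⟦n⟧) := by
  constructor
  · intro f g hfg
    obtain ⟨f, rfl⟩ := (shiftFunctor D n).map_surjective f
    obtain ⟨g, rfl⟩ := (shiftFunctor D n).map_surjective g
    congr 1
    apply h.1
    apply (shiftFunctor D' n).map_injective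
    have n1 := (F.commShiftIso n).hom.naturality f
    have n2 := (F.commShiftIso n).hom.naturality g
    dsimp at n1 n2 hfg ⊢
    rw [hfg, n2] at n1
    exact ((cancel_epi _).1 n1).symm
  · intro φ
    obtain ⟨ψ, hψ⟩ := (shiftFunctor D' n).map_surjective
      ((F.commShiftIso n).inv.app A ≫ φ ≫ (F.commShiftIso n).hom.app B)
    obtain ⟨f, rfl⟩ := h.2 ψ
    refine ⟨f⟦n⟧', ?_⟩
    have n1 := (F.commShiftIso n).hom.naturality f
    dsimp at n1 hψ ⊢
    rw [← cancel_mono ((F.commShiftIso n).hom.app B), n1, hψ]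
    simp

theorem full_faithful [∀ n : ℤ, (shiftFunctor D' n).Additive] [Pretriangulated D']
    [F.IsLeftAdjoint] [F.IsRightAdjoint] (S : Set D)
    (h2 : ∀ K : D, (∀ E ∈ S, ∀ (i : ℤ) (f : E ⟶ K⟦i⟧), f = 0) → IsZero K)
    (h3 : ∀ K : D, (∀ E ∈ S, ∀ (i : ℤ) (f : K ⟶ E⟦i⟧), f = 0) → IsZero K)
    (h4 : ∀ E ∈ S, ∀ E' ∈ S, ∀ i : ℤ, Bij F E (E'⟦i⟧)) :
    F.Full ∧ F.Faithful := by
  let adjH : F ⊣ F.rightAdjoint := Adjunction.ofIsLeftAdjoint F
  let adjG : F.leftAdjoint ⊣ F := Adjunction.ofIsRightAdjoint F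
  have hshift : ∀ E ∈ S, ∀ E' ∈ S, ∀ k i : ℤ, Bij F (E⟦k⟧) (E'⟦i⟧) := fun E hE E' hE' k i =>
    ((h4 E hE E' hE' (i - k)).shift k).of_iso (Iso.refl _)
      ((shiftFunctorAdd' D (i - k) k i (by omega)).app E').symm
  have heta : ∀ E ∈ S, ∀ i : ℤ, IsIso (adjH.unit.app (E⟦i⟧)) := by
    intro E' hE' i
    obtain ⟨C, p, w, hT⟩ := distinguished_cocone_triangle (adjH.unit.app (E'⟦i⟧))
    refine (Triangle.isZero₃_iff_isIso₁ _ hT).1 (h2 _ fun E hE j f => ?_)
    have hbij : ∀ k : ℤ, Function.Bijective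
        (fun g : E⟦k⟧ ⟶ E'⟦i⟧ => g ≫ adjH.unit.app (E'⟦i⟧)) := by
      intro k
      have : (fun g : E⟦k⟧ ⟶ E'⟦i⟧ => g ≫ adjH.unit.app (E'⟦i⟧)) =
          (adjH.homEquiv _ _) ∘ (fun g => F.map g) := by
        funext g
        simp [Adjunction.homEquiv_unit]
      rw [this]
      exact (Equiv.bijective _).comp (hshift E hE E' hE' k i)
    have key : ∀ (k : ℤ) (g : E⟦k⟧ ⟶ C), g = 0 := by
      intro k g
      have hc : adjH.unit.app (E'⟦i⟧) ≫ p = 0 := comp_distTriang_mor_zero₁₂ _ hT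
      have hw1 : g ≫ w = 0 := by
        obtain ⟨u, hu⟩ := (shiftFunctor D (1 : ℤ)).map_surjective
          (((shiftFunctorAdd' D (k - 1) 1 k (by omega)).app E).inv ≫ g ≫ w)
        have hz : w ≫ (adjH.unit.app (E'⟦i⟧))⟦1⟧' = 0 := comp_distTriang_mor_zero₃₁ _ hT
        have h0 : u ≫ adjH.unit.app (E'⟦i⟧) = 0 := by
          apply (shiftFunctor D (1 : ℤ)).map_injective
          rw [Functor.map_comp, Functor.map_zero, hu, Category.assoc, Category.assoc]
          erw [hz]
          simp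
        have u0 : u = 0 := (hbij _).1 (by simpa using h0)
        rw [u0, Functor.map_zero] at hu
        exact zero_of_epi_comp _ hu.symm
      obtain ⟨y, hy⟩ := Triangle.coyoneda_exact₃ _ hT g hw1
      obtain ⟨x, rfl⟩ := (hbij k).2 y
      rw [hy]
      exact (Category.assoc _ _ _).trans ((congrArg (x ≫ ·) hc).trans comp_zero)
    apply (shiftFunctor D (-j)).map_injective
    rw [Functor.map_zero]
    have := key (-j) (f⟦-j⟧' ≫ ((shiftFunctorCompIsoId D j (-j) (by omega)).app C).hom)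
    exact (Iso.cancel_iso_hom_right _ _ ((shiftFunctorCompIsoId D j (-j) (by omega)).app C)).1
      (this.trans zero_comp.symm)
  have hbijT : ∀ (K : D), ∀ E ∈ S, ∀ i : ℤ, Bij F K (E⟦i⟧) := by
    intro K E hE i
    haveI := heta E hE i
    have : (fun g : K ⟶ E⟦i⟧ => F.map g) =
        (adjH.homEquiv _ _).symm ∘ (fun g => g ≫ adjH.unit.app (E⟦i⟧)) := by
      funext g
      show F.map g = (adjH.homEquiv _ _).symm (g ≫ adjH.unit.app (E⟦i⟧))
      rw [Equiv.eq_symm_apply, Adjunction.homEquiv_unit]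
      simp
    show Function.Bijective (fun g : K ⟶ E⟦i⟧ => F.map g)
    rw [this]
    exact (Equiv.bijective _).comp ⟨fun a b h => (cancel_mono _).1 h,
      fun b => ⟨b ≫ inv (adjH.unit.app (E⟦i⟧)), by simp⟩⟩
  haveI : ∀ K, IsIso (adjG.counit.app K) := by
    intro K
    obtain ⟨C, p, w, hT⟩ := distinguished_cocone_triangle (adjG.counit.app K)
    refine (Triangle.isZero₃_iff_isIso₁ _ hT).1 (h3 _ fun E hE i f => ?_)
    have hbij : ∀ i : ℤ, Function.Bijective (fun g : K ⟶ E⟦i⟧ => adjG.counit.app K ≫ g) := by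
      intro i
      have : (fun g : K ⟶ E⟦i⟧ => adjG.counit.app K ≫ g) =
          (adjG.homEquiv _ _).symm ∘ (fun g => F.map g) := by
        funext g
        simp [Adjunction.homEquiv_counit]
      rw [this]
      exact (Equiv.bijective _).comp (hbijT K E hE i)
    have hc : adjG.counit.app K ≫ p = 0 := comp_distTriang_mor_zero₁₂ _ hT
    have hpf : p ≫ f = 0 := by
      apply (hbij i).1
      exact (Category.assoc _ _ _).symm.trans ((congrArg (· ≫ f) hc).trans (zero_comp.trans comp_zero.symm))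
    obtain ⟨h, hh⟩ := Triangle.yoneda_exact₃ _ hT f hpf
    obtain ⟨h', hh'⟩ := (shiftFunctor D (1 : ℤ)).map_surjective
      (h ≫ ((shiftFunctorAdd' D (i - 1) 1 i (by omega)).app E).hom)
    obtain ⟨x, rfl⟩ := (hbij (i - 1)).2 h'
    have hz : w ≫ (adjG.counit.app K)⟦1⟧' = 0 := comp_distTriang_mor_zero₃₁ _ hT
    have hwh : w ≫ h ≫ ((shiftFunctorAdd' D (i - 1) 1 i (by omega)).app E).hom = 0 := by
      refine (congrArg (w ≫ ·) hh'.symm).trans ?_
      refine (congrArg (w ≫ ·) ((shiftFunctor D (1 : ℤ)).map_comp _ _)).trans ?_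
      exact (Category.assoc _ _ _).symm.trans ((congrArg (· ≫ _) hz).trans zero_comp)
    rw [hh]
    refine zero_of_comp_mono ((shiftFunctorAdd' D (i - 1) 1 i (by omega)).app E).hom ?_
    exact (Category.assoc _ _ _).trans hwh
  haveI : IsIso adjG.counit := NatIso.isIso_of_isIso_app _
  exact ⟨adjG.fullyFaithfulROfIsIsoCounit.full, adjG.fullyFaithfulROfIsIsoCounit.faithful⟩

end Groth.L29.FF
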