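import Groth.Prelude.Def_KZero2
import Mathlib.CategoryTheory.Limits.Shapes.Products

/-! Basic identities in the Grothendieck groups of abelian and triangulated categories. -/

universe v u

open CategoryTheory CategoryTheory.Limits CategoryTheory.Pretriangulated

namespace Groth.L29

section Tr

variable {C : Type u} [Category.{v} C] [Preadditive C] [HasZeroObject C] [HasShift C ℤ]
  [∀ n : ℤ, (shiftFunctor C n).Additive] [Pretriangulated C]

theorem clTri_triangle (T : Triangle C) (hT : T ∈ distTriang C) :
    KZero.clTri T.obj₂ = KZero.clTri T.obj₁ + KZero.clTri T.obj₃ := by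
  have h : FreeAbelianGroup.of (⟨T.obj₂, trivial⟩ : Subtype (⊤ : ObjectProperty C)) -
      FreeAbelianGroup.of ⟨T.obj₁, trivial⟩ - FreeAbelianGroup.of ⟨T.obj₃, trivial⟩ ∈
      KZero.relTr (⊤ : ObjectProperty C) :=
    AddSubgroup.subset_closure ⟨T, trivial, trivial, trivial, hT, rfl⟩
  have h2 := (QuotientAddGroup.eq_zero_iff _).2 h
  rw [QuotientAddGroup.mk_sub, QuotientAddGroup.mk_sub, sub_sub, sub_eq_zero] at h2
  exact h2

open ZeroObject in
theorem clTri_zero_obj : KZero.clTri (0 : C) = 0 := by
  have h := clTri_triangle _ (contractible_distinguished (0 : C))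
  simpa using h

open ZeroObject in
theorem clTri_iso {X Y : C} (e : X ≅ Y) : KZero.clTri X = KZero.clTri Y := by
  have h : Triangle.mk e.hom (0 : Y ⟶ (0 : C)) 0 ∈ distTriang C :=
    isomorphic_distinguished _ (contractible_distinguished X) _
      (Triangle.isoMk _ _ (Iso.refl _) e.symm (Iso.refl _)
        (by exact e.hom_inv_id.trans (Category.id_comp (𝟙 X)).symm) (by exact zero_comp.trans comp_zero.symm) (by exact zero_comp.trans comp_zero.symm))
  have h' := clTri_triangle _ h
  simp [clTri_zero_obj] at h'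
  exact h'.symm

theorem clTri_isZero {X : C} (h : IsZero X) : KZero.clTri X = 0 := by
  rw [clTri_iso h.isoZero, clTri_zero_obj]

theorem clTri_shift_one (X : C) : KZero.clTri (X⟦(1 : ℤ)⟧) = - KZero.clTri X := by
  have h := clTri_triangle _ (rot_of_distTriang _ (contractible_distinguished X))
  simp [clTri_zero_obj] at h
  exact eq_neg_of_add_eq_zero_right h.symm

theorem clTri_biprod (X Y : C) : KZero.clTri (X ⊞ Y) = KZero.clTri X + KZero.clTri Y :=
  clTri_triangle _ (binaryBiproductTriangle_distinguished X Y)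

theorem clTri_shift (X : C) (n : ℤ) : KZero.clTri (X⟦n⟧) = n.negOnePow.val • KZero.clTri X := by
  induction n using Int.induction_on with
  | zero => simp [clTri_iso ((shiftFunctorZero C ℤ).app X)]
  | succ k ih =>
    rw [clTri_iso ((shiftFunctorAdd' C (k : ℤ) 1 (k + 1) rfl).app X)]
    simp only [Functor.comp_obj]
    rw [clTri_shift_one, ih, Int.negOnePow_succ]
    simp
  | pred k ih =>
    have h := clTri_shift_one (X⟦(-(k : ℤ) - 1)⟧)
    have e' := clTri_iso ((shiftFunctorAdd' C (-(k : ℤ) - 1) 1 (-(k : ℤ)) (by omega)).app X)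
    simp only [Functor.comp_obj] at e'
    rw [← e', ih] at h
    have : (-(k : ℤ)).negOnePow = -(-(k : ℤ) - 1).negOnePow := by
      rw [← Int.negOnePow_succ]; congr 1; omega
    rw [this] at h
    simp at h
    exact h.symm

end Tr

section Ab

variable {A : Type u} [Category.{v} A] [Abelian A]

theorem cl_shortExact (S : ShortComplex A) (hS : S.ShortExact) :
    KZero.cl S.X₂ = KZero.cl S.X₁ + KZero.cl S.X₃ := by
  have h : FreeAbelianGroup.of S.X₂ - FreeAbelianGroup.of S.X₁ - FreeAbelianGroup.of S.X₃ ∈
      KZero.relAb A := AddSubgroup.subset_closure ⟨S, hS, rfl⟩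
  have h2 := (QuotientAddGroup.eq_zero_iff _).2 h
  rw [QuotientAddGroup.mk_sub, QuotientAddGroup.mk_sub, sub_sub, sub_eq_zero] at h2
  exact h2

end Ab

end Groth.L29
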